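import Cfsg.Agent.Lib.EightSeven.FixedFactor
import Cfsg.Agent.S4569
import Cfsg.Agent.S4646

/-!
# An abelian Sylow two-subgroup of order eight or sixteen and a regular orbit of involutions

The inertial index and the centralized part are determined; the count of characters reduces to
quotients with fixed point free action.
-/

set_option autoImplicit false
set_option linter.unusedSectionVars false
set_option linter.style.haveILetI false

namespace CfsgLib.EightSeven

open Cfsg CfsgLib.Blocks
open scoped CfsgLib.Char

universe u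

variable {G : Type u} [Group G] [Fintype G] (P : Sylow 2 G)

/-- An involution with regular orbit under the normalizer. -/
def IsRegularPoint (x : (P : Subgroup G)) : Prop :=
  orderOf x = 2 ∧ ∀ w ∈ AbelianFrob.autG P, w x = x → w = 1

theorem isRegularPoint_of_rank {M : Ideal AlgInt} (hM : IsPModular 2 M)
    (hab : IsMulCommutative (P : Subgroup G)) {x : (P : Subgroup G)} (hx : orderOf x = 2)
    (hl : blockRank 2 (principalBlock M (Subgroup.centralizer ({(x : G)} : Set G))) = 1) :
    IsRegularPoint P x := by
  classical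
  haveI : Fact (Nat.Prime 2) := ⟨Nat.prime_two⟩
  refine ⟨hx, fun w hw hwx => ?_⟩
  set C := Subgroup.centralizer ({(x : G)} : Set G) with hC
  let := Fintype.ofFinite C
  have hnpc : HasNormalPComplement 2 C :=
    (Cfsg.Agent.S4691.result 2 M hM).mpr ((Cfsg.Agent.S4646.result 2 M hM).mpr hl)
  obtain ⟨Q, K, hKn, hKQ⟩ := hnpc
  have hle : (P : Subgroup G) ≤ C := AbelianFrob.le_centralizer_singleton P hab x.2
  obtain ⟨n, rfl⟩ := hw
  have hnC : (n : G) ∈ C := by
    rw [hC, Subgroup.mem_centralizer_singleton_iff]
    exact mul_inv_eq_iff_eq_mul.mp ((AbelianFrob.normalizerMonoidHom_coe P n x).symm.trans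
      (congrArg Subtype.val hwx))
  have hKodd : ¬ 2 ∣ Nat.card K := fun h => Q.not_dvd_index (by rwa [hKQ.index_eq_card])
  have hcomm : ∀ v : C, (v : G) ∈ (P : Subgroup G) → ∀ g : C, g * v * g⁻¹ * v⁻¹ ∈ K →
      ((g * v * g⁻¹ * v⁻¹ : C) : G) ∈ (P : Subgroup G) → g * v * g⁻¹ * v⁻¹ = 1 := by
    intro v _ g hk hp
    set k := g * v * g⁻¹ * v⁻¹
    obtain ⟨j, hj⟩ := IsPGroup.iff_orderOf.mp P.2 ⟨(k : G), hp⟩
    rw [Subgroup.orderOf_mk, Subgroup.orderOf_coe] at hj
    have h2 := orderOf_dvd_natCard (⟨k, hk⟩ : K)
    rw [Subgroup.orderOf_mk, hj] at h2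
    rcases j with _ | j
    · rw [← orderOf_eq_one_iff, hj, pow_zero]
    · exact absurd ((dvd_pow_self 2 j.succ_ne_zero).trans h2) hKodd
  haveI := hKn
  -- the quotient by the complement is abelian
  have hQab : ∀ a b : C, a * b * a⁻¹ * b⁻¹ ∈ K := by
    intro a b
    rw [← QuotientGroup.eq_one_iff]
    simp only [QuotientGroup.mk_mul, QuotientGroup.mk_inv]
    have hsur : ∀ c : C, ∃ v : C, v ∈ (P.subtype hle : Subgroup C) ∧
        (QuotientGroup.mk v : C ⧸ K) = QuotientGroup.mk c := by
      intro c
      have hle' : Nat.card (C ⧸ K) = Nat.card (P.subtype hle : Subgroup C) := by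
        rw [← Subgroup.index_eq_card, hKQ.symm.index_eq_card,
          Sylow.card_eq_multiplicity, Sylow.card_eq_multiplicity]
      let g : ↥(P.subtype hle : Subgroup C) → C ⧸ K := fun v => QuotientGroup.mk (v : C)
      have hinj : Function.Injective g := by
        intro a b e
        have h1 : (a : C)⁻¹ * b ∈ K := QuotientGroup.eq.mp e
        have h2 : (a⁻¹ * b : (P.subtype hle : Subgroup C)) = 1 := by
          obtain ⟨j, hj⟩ := IsPGroup.iff_orderOf.mp (P.subtype hle).2 (a⁻¹ * b)
          have h3 := orderOf_dvd_natCard (⟨_, h1⟩ : K)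
          have h4 : orderOf (⟨_, h1⟩ : K) = 2 ^ j := by
            rw [← hj, Subgroup.orderOf_mk]
            exact Subgroup.orderOf_coe (a⁻¹ * b)
          rw [h4] at h3
          rcases j with _ | j
          · rwa [pow_zero, orderOf_eq_one_iff] at hj
          · exact absurd ((dvd_pow_self 2 j.succ_ne_zero).trans h3) hKodd
        exact inv_mul_eq_one.mp h2
      obtain ⟨v, hv⟩ := ((Nat.bijective_iff_injective_and_card g).mpr ⟨hinj, hle'.symm⟩).2
        (QuotientGroup.mk c)
      exact ⟨v, v.2, hv⟩
    obtain ⟨v, hv, ev⟩ := hsur a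
    obtain ⟨v', hv', ev'⟩ := hsur b
    rw [← ev, ← ev']
    have e : v * v' = v' * v := by
      haveI := hab
      have hh := congrArg (fun z : (P : Subgroup G) => (z : G))
        (mul_comm' (⟨((v : C) : G), hv⟩ : (P : Subgroup G)) ⟨((v' : C) : G), hv'⟩)
      exact Subtype.ext hh
    rw [← QuotientGroup.mk_mul, e, QuotientGroup.mk_mul]
    group
  ext y
  rw [AbelianFrob.normalizerMonoidHom_coe]
  show (n : G) * y * (n : G)⁻¹ = y
  have h := hcomm ⟨(y : G), hle y.2⟩ y.2 ⟨n, hnC⟩ (hQab _ _)
    (mul_mem ((Subgroup.mem_normalizer_iff.mp n.2 _).mp y.2) (inv_mem y.2))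
  exact mul_inv_eq_one.mp (congrArg Subtype.val h)

theorem inertia_eq : inertia (P : Subgroup G) = Nat.card (AbelianFrob.autG P) :=
  (AbelianFrob.card_autG P).symm

variable {P}

/-- The images of a regular involution are distinct involutions. -/
theorem card_autG_lt {x : (P : Subgroup G)} (hx : IsRegularPoint P x) :
    Nat.card (AbelianFrob.autG P) < Nat.card {z : (P : Subgroup G) // z ^ 2 = 1} := by
  classical
  let g : Option (AbelianFrob.autG P) → {z : (P : Subgroup G) // z ^ 2 = 1} := fun o =>
    o.elim ⟨1, one_pow 2⟩ fun w => ⟨(w : MulAut (P : Subgroup G)) x, by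
      have h2 := pow_orderOf_eq_one x
      rw [hx.1] at h2
      rw [← map_pow, h2, map_one]⟩
  have hne : x ≠ 1 := fun h => by
    have := hx.1
    rw [h, orderOf_one] at this
    omega
  have hg : Function.Injective g := by
    rintro (_ | a) (_ | b) h <;> simp only [g, Option.elim, Subtype.mk.injEq] at h
    · rfl
    · exact absurd ((MulEquiv.map_eq_one_iff _).mp h.symm) hne
    · exact absurd ((MulEquiv.map_eq_one_iff _).mp h) hne
    · refine congrArg some (Subtype.ext (inv_mul_eq_one.mp (hx.2 _
        (mul_mem (inv_mem a.2) b.2) ?_)))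
      rw [MulAut.mul_apply, ← h, MulAut.inv_apply_self]
  have := Nat.card_le_card_of_injective g hg
  rw [Finite.card_option] at this
  omega

theorem card_autG_lt_card {x : (P : Subgroup G)} (hx : IsRegularPoint P x) :
    Nat.card (AbelianFrob.autG P) < Nat.card (P : Subgroup G) :=
  (card_autG_lt hx).trans_le (Nat.card_le_card_of_injective _ Subtype.val_injective)

/-- A Sylow subgroup of order sixteen with more than eight involutions is elementary. -/
theorem exp_two (hab : IsMulCommutative (P : Subgroup G)) (hcard : Nat.card (P : Subgroup G) = 16)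
    (h : 8 < Nat.card {z : (P : Subgroup G) // z ^ 2 = 1}) :
    ∀ z : (P : Subgroup G), z ^ 2 = 1 := by
  haveI := hab
  let W : Subgroup (P : Subgroup G) :=
    { carrier := {z | z ^ 2 = 1}
      one_mem' := one_pow 2
      mul_mem' := fun {a b} ha hb => by
        show (a * b) ^ 2 = 1
        rw [(show Commute a b from mul_comm' (a := a) (b := b)).mul_pow, show a ^ 2 = 1 from ha,
          show b ^ 2 = 1 from hb, one_mul]
      inv_mem' := fun {a} ha => by
        show a⁻¹ ^ 2 = 1
        rw [inv_pow, show a ^ 2 = 1 from ha, inv_one] }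
  have hd := W.card_subgroup_dvd_card
  rw [hcard] at hd
  have hW : 8 < Nat.card W := h
  have h16 : Nat.card W = 16 := by
    have := Nat.le_of_dvd (by norm_num) hd
    interval_cases hk : Nat.card W <;> omega
  have : W = ⊤ := W.eq_top_of_card_eq (by rw [h16, hcard])
  exact fun z => show z ∈ W from this ▸ Subgroup.mem_top z

/-- The fixed points of an automorphism of prime order form a proper subgroup, congruent to the
group. -/
theorem fix_card {x : (P : Subgroup G)} (hx : IsRegularPoint P x) {w : MulAut (P : Subgroup G)}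
    (hw : w ∈ AbelianFrob.autG P) (hw1 : w ≠ 1) {r : ℕ} [Fact r.Prime] (hr : orderOf w = r) :
    Nat.card (MonoidHom.eqLocus w.toMonoidHom (MonoidHom.id _)) ∣ Nat.card (P : Subgroup G) ∧
      Nat.card (MonoidHom.eqLocus w.toMonoidHom (MonoidHom.id _)) < Nat.card (P : Subgroup G) ∧
      Nat.card (P : Subgroup G) ≡
        Nat.card (MonoidHom.eqLocus w.toMonoidHom (MonoidHom.id _)) [MOD r] := by
  classical
  set F := MonoidHom.eqLocus w.toMonoidHom (MonoidHom.id _) with hF
  refine ⟨F.card_subgroup_dvd_card, lt_of_le_of_ne (Subgroup.card_le_card_group F) fun e => ?_, ?_⟩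
  · have h : x ∈ F := (F.eq_top_of_card_eq e) ▸ Subgroup.mem_top x
    exact hw1 (hx.2 w hw h)
  · have hp : IsPGroup r (Subgroup.zpowers w) := IsPGroup.of_card (n := 1) (by
      rw [Nat.card_zpowers, hr, pow_one])
    refine (hp.card_modEq_card_fixedPoints (α := (P : Subgroup G))).trans ?_
    rw [show Nat.card (MulAction.fixedPoints (Subgroup.zpowers w) (P : Subgroup G)) = Nat.card F from
      Nat.card_congr (Equiv.subtypeEquivRight fun z => ⟨fun h => h ⟨w, Subgroup.mem_zpowers w⟩,
        fun h g => by
          obtain ⟨v, hv⟩ := g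
          obtain ⟨i, rfl⟩ := Subgroup.mem_zpowers_iff.mp hv
          have hs : w ∈ MulAction.stabilizer (MulAut (P : Subgroup G)) z := h
          exact zpow_mem hs i⟩)]

theorem normalizerMonoidHom_mem (y : Subgroup.normalizer ((P : Subgroup G) : Set G)) :
    (P : Subgroup G).normalizerMonoidHom y ∈ AbelianFrob.autG P := ⟨y, rfl⟩

theorem mem_centralizer_of_auto {y : G} (hy : y ∈ Subgroup.normalizer ((P : Subgroup G) : Set G))
    (h : (P : Subgroup G).normalizerMonoidHom ⟨y, hy⟩ = 1) :
    y ∈ Subgroup.centralizer ((P : Subgroup G) : Set G) := by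
  rw [← MonoidHom.mem_ker, Subgroup.normalizerMonoidHom_ker, Subgroup.mem_subgroupOf] at h
  exact h

/-- Prime inertial index: the fixed points of a generator. -/
theorem exists_fixedPart {x : (P : Subgroup G)} (hx : IsRegularPoint P x) {r : ℕ}
    [Fact r.Prime] (he : Nat.card (AbelianFrob.autG P) = r) :
    ∃ Z : Subgroup G, IsFixedPart (P : Subgroup G) Z ∧ Nat.card Z ∣ Nat.card (P : Subgroup G) ∧
      Nat.card Z < Nat.card (P : Subgroup G) ∧ Nat.card (P : Subgroup G) ≡ Nat.card Z [MOD r] := by
  classical
  obtain ⟨w, hw⟩ := exists_prime_orderOf_dvd_card' r (G := AbelianFrob.autG P) (dvd_of_eq he.symm)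
  have hr : orderOf (w : MulAut (P : Subgroup G)) = r := by rw [Subgroup.orderOf_coe, hw]
  have hw1 : (w : MulAut (P : Subgroup G)) ≠ 1 := fun h => by
    rw [h, orderOf_one] at hr
    exact (Fact.out : r.Prime).ne_one hr.symm
  have hgen : ∀ v ∈ AbelianFrob.autG P, v ∈ Subgroup.zpowers (w : MulAut (P : Subgroup G)) := by
    intro v hv
    have h := Subgroup.eq_of_le_of_card_ge (Subgroup.zpowers_le.mpr w.2) (by
      rw [Nat.card_zpowers, hr, he])
    rw [h]; exact hv
  set F := MonoidHom.eqLocus (w : MulAut (P : Subgroup G)).toMonoidHom (MonoidHom.id _) with hF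
  have hall : ∀ z ∈ F, ∀ v ∈ AbelianFrob.autG P, v z = z := fun z hz v hv => by
    obtain ⟨i, rfl⟩ := Subgroup.mem_zpowers_iff.mp (hgen v hv)
    have hs : (w : MulAut (P : Subgroup G)) ∈ MulAction.stabilizer (MulAut (P : Subgroup G)) z := hz
    exact zpow_mem hs i
  refine ⟨F.map (P : Subgroup G).subtype, ⟨?_, ?_, ?_⟩, ?_⟩
  · rintro _ ⟨z, -, rfl⟩
    exact z.2
  · rintro y hy _ ⟨z, hz, rfl⟩
    exact congrArg Subtype.val (hall z hz _ (normalizerMonoidHom_mem ⟨y, hy⟩))
  · intro z hz hzF y hy hfix
    refine mem_centralizer_of_auto hy ?_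
    by_contra hne
    set v := (P : Subgroup G).normalizerMonoidHom ⟨y, hy⟩
    have hvz : v ⟨z, hz⟩ = ⟨z, hz⟩ := Subtype.ext hfix
    have htop : Subgroup.zpowers v = AbelianFrob.autG P := by
      have hv := normalizerMonoidHom_mem (P := P) ⟨y, hy⟩
      refine Subgroup.eq_of_le_of_card_ge (Subgroup.zpowers_le.mpr hv) ?_
      have hd := orderOf_dvd_natCard (⟨v, hv⟩ : AbelianFrob.autG P)
      rw [Subgroup.orderOf_mk, he] at hd
      rcases (Nat.dvd_prime (Fact.out : r.Prime)).mp hd with h | h
      · exact absurd (orderOf_eq_one_iff.mp h) hne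
      · rw [Nat.card_zpowers, h, he]
    have hw' : (w : MulAut (P : Subgroup G)) ∈ Subgroup.zpowers v := by
      rw [htop]; exact w.2
    obtain ⟨i, hi⟩ := Subgroup.mem_zpowers_iff.mp hw'
    refine hzF ⟨⟨z, hz⟩, ?_, rfl⟩
    have hs : v ∈ MulAction.stabilizer (MulAut (P : Subgroup G)) (⟨z, hz⟩ : (P : Subgroup G)) := hvz
    have := zpow_mem hs i
    rw [hi] at this
    exact this
  · rw [Subgroup.card_map_of_injective (P : Subgroup G).subtype_injective]
    exact fix_card hx w.2 hw1 hr

/-- An inertial index one less than the order gives one orbit and no fixed points. -/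
theorem fixedPart_bot_of_card {x : (P : Subgroup G)} (hx : IsRegularPoint P x)
    (he : Nat.card (AbelianFrob.autG P) + 1 = Nat.card (P : Subgroup G)) :
    IsFixedPart (P : Subgroup G) ⊥ := by
  classical
  have horb : ∀ z : (P : Subgroup G), z ≠ 1 → ∃ w ∈ AbelianFrob.autG P, w x = z := by
    intro z hz
    let g : Option (AbelianFrob.autG P) → (P : Subgroup G) := fun o =>
      o.elim 1 fun w => (w : MulAut (P : Subgroup G)) x
    have hne : x ≠ 1 := fun h => by
      have := hx.1
      rw [h, orderOf_one] at this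
      omega
    have hg : Function.Injective g := by
      rintro (_ | a) (_ | b) h <;> simp only [g, Option.elim] at h
      · rfl
      · exact absurd ((MulEquiv.map_eq_one_iff _).mp h.symm) hne
      · exact absurd ((MulEquiv.map_eq_one_iff _).mp h) hne
      · refine congrArg some (Subtype.ext (inv_mul_eq_one.mp (hx.2 _
          (mul_mem (inv_mem a.2) b.2) ?_)))
        rw [MulAut.mul_apply, ← h, MulAut.inv_apply_self]
    obtain ⟨o, ho⟩ := ((Nat.bijective_iff_injective_and_card g).mpr
      ⟨hg, by rw [Finite.card_option, he]⟩).2 z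
    rcases o with _ | w
    · exact absurd ho.symm hz
    · exact ⟨w, w.2, ho⟩
  refine ⟨bot_le, fun y _ z hz => ?_, fun z hz hz1 y hy hfix => ?_⟩
  · obtain rfl := Subgroup.mem_bot.mp hz
    group
  · obtain ⟨w, hw, he⟩ := horb ⟨z, hz⟩ fun h => hz1 (Subgroup.mem_bot.mpr (congrArg Subtype.val h))
    refine mem_centralizer_of_auto hy ?_
    set v := (P : Subgroup G).normalizerMonoidHom ⟨y, hy⟩
    have hv := normalizerMonoidHom_mem (P := P) ⟨y, hy⟩
    have h := hx.2 _ (mul_mem (mul_mem (inv_mem hw) hv) hw) (by
      rw [MulAut.mul_apply, MulAut.mul_apply, he,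
        show v ⟨z, hz⟩ = ⟨z, hz⟩ from Subtype.ext hfix, ← he, MulAut.inv_apply_self])
    rw [mul_assoc, inv_mul_eq_one] at h
    exact mul_right_cancel (b := w) (by rw [← h, one_mul])

/-- No inertial index five in order eight, eleven or thirteen in order sixteen. -/
theorem card_autG_ne {x : (P : Subgroup G)} (hx : IsRegularPoint P x) {r : ℕ} (hr : r.Prime)
    (h : ∀ k, k ∣ Nat.card (P : Subgroup G) → k < Nat.card (P : Subgroup G) →
      ¬ Nat.card (P : Subgroup G) ≡ k [MOD r]) :
    Nat.card (AbelianFrob.autG P) ≠ r := fun he => by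
  haveI := Fact.mk hr
  obtain ⟨Z, -, h1, h2, h3⟩ := exists_fixedPart hx he
  exact h _ h1 h2 h3

section Main

variable {M : Ideal AlgInt} [M.IsPrime]

/-- The counts in terms of the fixed point free cases. -/
theorem of_bases (hM : IsPModular 2 M) (P : Sylow 2 G) (hab : IsMulCommutative (P : Subgroup G))
    {x : (P : Subgroup G)} (hx : IsRegularPoint P x)
    (h4 : ∀ (G : Type u) [Group G] [Fintype G] (P : Sylow 2 G),
      IsMulCommutative (P : Subgroup G) → Nat.card (P : Subgroup G) = 4 →
      IsFixedPart (P : Subgroup G) ⊥ → inertia (P : Subgroup G) = 3 →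
      Nat.card (principalBlock M G) = 4)
    (h87 : ∀ (G : Type u) [Group G] [Fintype G] (P : Sylow 2 G),
      IsMulCommutative (P : Subgroup G) → Nat.card (P : Subgroup G) = 8 →
      IsFixedPart (P : Subgroup G) ⊥ → inertia (P : Subgroup G) = 7 →
      Nat.card (principalBlock M G) = 8)
    (h163 : ∀ (G : Type u) [Group G] [Fintype G] (P : Sylow 2 G),
      IsMulCommutative (P : Subgroup G) → Nat.card (P : Subgroup G) = 16 →
      IsFixedPart (P : Subgroup G) ⊥ → inertia (P : Subgroup G) = 3 →
      Nat.card (principalBlock M G) = 8)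
    (h165 : ∀ (G : Type u) [Group G] [Fintype G] (P : Sylow 2 G),
      IsMulCommutative (P : Subgroup G) → Nat.card (P : Subgroup G) = 16 →
      (∀ z : (P : Subgroup G), z ^ 2 = 1) →
      IsFixedPart (P : Subgroup G) ⊥ → inertia (P : Subgroup G) = 5 →
      Nat.card (principalBlock M G) = 8)
    (h1615 : ∀ (G : Type u) [Group G] [Fintype G] (P : Sylow 2 G),
      IsMulCommutative (P : Subgroup G) → Nat.card (P : Subgroup G) = 16 →
      (∀ z : (P : Subgroup G), z ^ 2 = 1) →
      IsFixedPart (P : Subgroup G) ⊥ → inertia (P : Subgroup G) = 15 →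
      Nat.card (principalBlock M G) = 8 ∨ Nat.card (principalBlock M G) = 16) :
    (Nat.card (P : Subgroup G) = 8 → Nat.card (principalBlock M G) = 8) ∧
      (Nat.card (P : Subgroup G) = 16 →
        Nat.card (principalBlock M G) = 8 ∨ Nat.card (principalBlock M G) = 16) := by
  classical
  haveI : Fact (Nat.Prime 2) := ⟨Nat.prime_two⟩
  haveI : Fact (Nat.Prime 3) := ⟨Nat.prime_three⟩
  haveI : Fact (Nat.Prime 7) := ⟨by norm_num⟩
  have habE : ∀ a ∈ (P : Subgroup G), ∀ b ∈ (P : Subgroup G), a * b = b * a := fun a ha b hb =>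
    congrArg Subtype.val (hab.is_comm.comm ⟨a, ha⟩ ⟨b, hb⟩)
  have hodd : Odd (Nat.card (AbelianFrob.autG P)) := inertia_eq P ▸ odd_inertia P habE
  have hlt := card_autG_lt_card hx
  -- reduction to a fixed point free quotient
  have hred : ∀ (Z : Subgroup G), IsFixedPart (P : Subgroup G) Z → ∀ (e s k : ℕ),
      Nat.card (AbelianFrob.autG P) = e → Nat.card (P : Subgroup G) = Nat.card Z * s →
      (∀ (G : Type u) [Group G] [Fintype G] (P : Sylow 2 G),
        IsMulCommutative (P : Subgroup G) → Nat.card (P : Subgroup G) = s →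
        IsFixedPart (P : Subgroup G) ⊥ → inertia (P : Subgroup G) = e →
        Nat.card (principalBlock M G) = k) →
      Nat.card (principalBlock M G) = Nat.card Z * k := by
    intro Z hZ e s k he hs hb
    obtain ⟨G', _, _, P', φ, hφ, hker, hbot, he', -, hk⟩ :=
      exists_reduced hM _ G P habE Z hZ rfl
    rw [hk, hb G' P' ?_ ?_ hbot (by rw [he', inertia_eq, he])]
    · refine ⟨⟨fun a b => ?_⟩⟩
      obtain ⟨a', rfl⟩ := hφ a
      obtain ⟨b', rfl⟩ := hφ b
      rw [← map_mul, hab.is_comm.comm, map_mul]
    · have h := Subgroup.index_mul_card φ.ker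
      rw [Subgroup.index_ker, MonoidHom.range_eq_top.mpr hφ, Subgroup.card_top, hker,
        Nat.card_congr (Subgroup.subgroupOfEquivOfLe hZ.1).toEquiv, hs, mul_comm] at h
      exact Nat.eq_of_mul_eq_mul_left Nat.card_pos h
  -- trivial inertial index
  have hone : Nat.card (AbelianFrob.autG P) = 1 →
      Nat.card (principalBlock M G) = Nat.card (P : Subgroup G) := by
    intro he
    have he' : inertia (P : Subgroup G) = 1 := (inertia_eq P).trans he
    have hNC : Subgroup.normalizer ((P : Subgroup G) : Set G) ≤
        Subgroup.centralizer ((P : Subgroup G) : Set G) := Subgroup.relIndex_eq_one.mp he'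
    have hZ : IsFixedPart (P : Subgroup G) (P : Subgroup G) :=
      ⟨le_rfl, fun y hy z hz => by
        rw [← Subgroup.mem_centralizer_iff.mp (hNC hy) z hz, mul_inv_cancel_right],
        fun z hz h => absurd hz h⟩
    have h := card_principal_fixed P hM habE hZ
    rw [he', InertiaNine.blockRank_principal_of_npc hM
      (Transfer.hasNormalPComplement_of_normalizer_le_centralizer P hNC) P] at h
    omega
  refine ⟨fun h8 => ?_, fun h16 => ?_⟩
  · have h5 : Nat.card (AbelianFrob.autG P) ≠ 5 := card_autG_ne hx (by norm_num) fun k hk hk' => by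
      rw [h8] at hk hk' ⊢
      interval_cases k <;> revert hk <;> decide
    rw [h8] at hlt
    obtain ⟨j, hj⟩ := hodd
    rcases (show j = 0 ∨ j = 1 ∨ j = 2 ∨ j = 3 by omega) with rfl | rfl | rfl | rfl
    · rw [hone hj, h8]
    · obtain ⟨Z, hZ, hd, hl, hmod⟩ := exists_fixedPart (r := 3) hx hj
      rw [h8] at hd hl hmod
      have h2 : Nat.card Z = 2 := by
        interval_cases hk : Nat.card Z <;> first | rfl | (revert hd hmod; decide)
      rw [hred Z hZ 3 4 4 hj (by rw [h8, h2]) h4, h2]
    · exact absurd hj h5
    · exact h87 G P hab h8 (fixedPart_bot_of_card hx (by omega)) ((inertia_eq P).trans hj)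
  · have h11 : Nat.card (AbelianFrob.autG P) ≠ 11 := card_autG_ne hx (by norm_num) fun k hk hk' => by
      rw [h16] at hk hk' ⊢
      interval_cases k <;> revert hk <;> decide
    have h13 : Nat.card (AbelianFrob.autG P) ≠ 13 := card_autG_ne hx (by norm_num) fun k hk hk' => by
      rw [h16] at hk hk' ⊢
      interval_cases k <;> revert hk <;> decide
    rw [h16] at hlt
    obtain ⟨j, hj⟩ := hodd
    rcases (show j = 0 ∨ j = 1 ∨ j = 2 ∨ j = 3 ∨ j = 4 ∨ j = 5 ∨ j = 6 ∨ j = 7 by omega) with
      rfl | rfl | rfl | rfl | rfl | rfl | rfl | rfl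
    · exact Or.inr (by rw [hone hj, h16])
    · obtain ⟨Z, hZ, hd, hl, hmod⟩ := exists_fixedPart (r := 3) hx hj
      rw [h16] at hd hl hmod
      have h14 : Nat.card Z = 1 ∨ Nat.card Z = 4 := by
        interval_cases hk : Nat.card Z <;> first | omega | (revert hd hmod; decide)
      rcases h14 with h1 | h4'
      · exact Or.inl (by rw [hred Z hZ 3 16 8 hj (by rw [h16, h1]) h163, h1])
      · exact Or.inr (by rw [hred Z hZ 3 4 4 hj (by rw [h16, h4']) h4, h4'])
    · haveI : Fact (Nat.Prime 5) := ⟨by norm_num⟩
      obtain ⟨Z, hZ, hd, hl, hmod⟩ := exists_fixedPart (r := 5) hx hj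
      rw [h16] at hd hl hmod
      have h1 : Nat.card Z = 1 := by
        interval_cases hk : Nat.card Z <;> first | rfl | (revert hd hmod; decide)
      obtain rfl := Subgroup.card_eq_one.mp h1
      have hexp : ∀ z : (P : Subgroup G), z ^ 2 = 1 := by
        haveI := hab
        let W : Subgroup (P : Subgroup G) :=
          { carrier := {z | z ^ 2 = 1}
            one_mem' := one_pow 2
            mul_mem' := fun {a b} ha hb => by
              show (a * b) ^ 2 = 1
              rw [(show Commute a b from mul_comm' (a := a) (b := b)).mul_pow, show a ^ 2 = 1 from ha,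
                show b ^ 2 = 1 from hb, one_mul]
            inv_mem' := fun {a} ha => by
              show a⁻¹ ^ 2 = 1
              rw [inv_pow, show a ^ 2 = 1 from ha, inv_one] }
        obtain ⟨w, hw⟩ := exists_prime_orderOf_dvd_card' 5 (G := AbelianFrob.autG P)
          (dvd_of_eq hj.symm)
        have hp : IsPGroup 5 (Subgroup.zpowers (w : MulAut (P : Subgroup G))) :=
          IsPGroup.of_card (n := 1) (by rw [Nat.card_zpowers, Subgroup.orderOf_coe, hw, pow_one])
        have h5W : 5 < Nat.card W := by
          have := card_autG_lt hx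
          rw [hj] at this
          exact this
        refine exp_two hab h16 ?_
        have hd' := W.card_subgroup_dvd_card
        rw [h16] at hd'
        have hle := Nat.le_of_dvd (by norm_num) hd'
        show 8 < Nat.card W
        rcases (show Nat.card W = 8 ∨ Nat.card W = 16 by
          interval_cases hk : Nat.card W <;> first | omega | (revert hd'; decide)) with h | h
        · -- eight involutions cannot be moved freely by five
          exfalso
          letI : MulAction (Subgroup.zpowers (w : MulAut (P : Subgroup G))) W :=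
            { smul := fun g z => ⟨(g : MulAut (P : Subgroup G)) z, by
                show _ ^ 2 = 1
                rw [← map_pow, show (z : (P : Subgroup G)) ^ 2 = 1 from z.2, map_one]⟩
              one_smul := fun z => rfl
              mul_smul := fun g g' z => rfl }
          have hm := hp.card_modEq_card_fixedPoints (α := W)
          have h1' : Nat.card (MulAction.fixedPoints
              (Subgroup.zpowers (w : MulAut (P : Subgroup G))) W) = 1 := by
            refine Nat.card_eq_one_iff_unique.mpr ⟨⟨fun a b => ?_⟩, ⟨⟨1, fun g => ?_⟩⟩⟩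
            · have hzero : ∀ a : MulAction.fixedPoints
                  (Subgroup.zpowers (w : MulAut (P : Subgroup G))) W, (a : W) = 1 := by
                intro a
                by_contra hne
                have hfixw := congrArg (fun z : W => (z : (P : Subgroup G)))
                  (a.2 ⟨(w : MulAut (P : Subgroup G)), Subgroup.mem_zpowers _⟩)
                have hw1 : (w : MulAut (P : Subgroup G)) ≠ 1 := fun e => by
                  rw [← Subgroup.orderOf_coe, e, orderOf_one] at hw
                  omega
                obtain ⟨n, hn⟩ := w.2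
                apply hw1
                rw [← hn, ← MonoidHom.mem_ker, Subgroup.normalizerMonoidHom_ker,
                  Subgroup.mem_subgroupOf]
                refine hZ.2.2 _ ((a : W) : (P : Subgroup G)).2 (fun h => hne ?_) _ n.2 ?_
                · exact Subtype.ext (Subtype.ext (Subgroup.mem_bot.mp h))
                · rw [← AbelianFrob.normalizerMonoidHom_coe, hn]
                  exact congrArg Subtype.val hfixw
              exact Subtype.ext ((hzero a).trans (hzero b).symm)
            · exact Subtype.ext (map_one _)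
          rw [h1', h] at hm
          revert hm; decide
        · omega
      exact Or.inl (h165 G P hab h16 hexp hZ ((inertia_eq P).trans hj))
    · obtain ⟨Z, hZ, hd, hl, hmod⟩ := exists_fixedPart (r := 7) hx hj
      rw [h16] at hd hl hmod
      have h2 : Nat.card Z = 2 := by
        interval_cases hk : Nat.card Z <;> first | rfl | (revert hd hmod; decide)
      exact Or.inr (by rw [hred Z hZ 7 8 8 hj (by rw [h16, h2]) h87, h2])
    · have hexp := exp_two hab h16 (by have := card_autG_lt hx; omega)
      refine Or.inr (Cfsg.Agent.S4569.result M hM P h16 hexp ?_).1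
      exact (AbelianFrob.card_autG P).symm.trans hj
    · exact absurd hj h11
    · exact absurd hj h13
    · exact h1615 G P hab h16 (exp_two hab h16 (by have := card_autG_lt hx; omega))
        (fixedPart_bot_of_card hx (by omega)) ((inertia_eq P).trans hj)

end Main

end CfsgLib.EightSeven
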