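import Cfsg.Agent.Lib.Blocks.Decomp.Block
import Cfsg.Agent.Lib.Blocks.RealBlock
import Cfsg.Agent.Lib.Char.Counting

/-!
# Complex conjugation on the decomposition matrix

The inversion of the group ring permutes the classes of primitive idempotents, so it permutes the
projective columns compatibly with complex conjugation of the characters.
-/

set_option autoImplicit false
set_option linter.unusedSectionVars false

namespace CfsgLib.EightSeven

open Cfsg CfsgLib CfsgLib.GrpRing CfsgLib.Blocks CfsgLib.Blocks.Decomp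
open scoped ComplexConjugate CfsgLib.Char

section Antipode

variable {R : Type*} [CommRing R] {G : Type*} [Group G] [Fintype G]

/-- The inversion of the group ring. -/
noncomputable def flipG (a : MonoidAlgebra R G) : MonoidAlgebra R G :=
  Blocks.ofFun fun g => a.coeff g⁻¹

theorem coeff_flipG (a : MonoidAlgebra R G) (g : G) : (flipG a).coeff g = a.coeff g⁻¹ :=
  Blocks.coeff_ofFun _ g

theorem flipG_flipG (a : MonoidAlgebra R G) : flipG (flipG a) = a :=
  MonoidAlgebra.ext (Finsupp.ext fun g => by rw [coeff_flipG, coeff_flipG, inv_inv])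

theorem flipG_zero : flipG (0 : MonoidAlgebra R G) = 0 :=
  MonoidAlgebra.ext (Finsupp.ext fun g => by simp [coeff_flipG])

theorem flipG_mul (a b : MonoidAlgebra R G) : flipG (a * b) = flipG b * flipG a := by
  refine MonoidAlgebra.ext (Finsupp.ext fun g => ?_)
  rw [coeff_flipG, coeff_mul_fintype, coeff_mul_fintype]
  refine Fintype.sum_equiv (Equiv.mulLeft g) _ _ fun h => ?_
  simp only [Equiv.coe_mulLeft, coeff_flipG, mul_inv_rev, inv_inv, inv_mul_cancel_right]
  exact mul_comm _ _

theorem isPrim_flipG {x : MonoidAlgebra R G} (hx : Corner.IsPrim x) : Corner.IsPrim (flipG x) where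
  idem := by rw [IsIdempotentElem, ← flipG_mul, hx.idem.eq]
  ne_zero h := hx.ne_zero (by rw [← flipG_flipG x, h, flipG_zero])
  eq_of_le e he h1 h2 := by
    rcases hx.eq_of_le (flipG e) (by rw [IsIdempotentElem, ← flipG_mul, he.eq])
      (by rw [← flipG_flipG x, ← flipG_mul, h2]) (by rw [← flipG_flipG x, ← flipG_mul, h1]) with h | h
    · left; rw [← flipG_flipG e, h, flipG_zero]
    · right; rw [← flipG_flipG e, h]

end Antipode

variable {p : ℕ} {M : Ideal AlgInt} [M.IsPrime] {G : Type*} [Group G] [Fintype G]

theorem red_flipG (a : OG M G) : red (flipG a) = flipG (red a) :=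
  MonoidAlgebra.ext (Finsupp.ext fun g => by rw [coeff_red, coeff_flipG, coeff_flipG, coeff_red])

variable (S : Simples M G)

/-- The component of the inverted idempotent. -/
noncomputable def dualIdx (b : Fin S.r) : Fin S.r :=
  (exists_component S.π S.nil (isPrim_flipG (S.prim b))).choose

theorem rk_flipG (b c : Fin S.r) :
    rk S.π c (flipG (S.j b)) = if c = dualIdx S b then 1 else 0 := by
  obtain ⟨h1, h0⟩ := prim_component S.π S.surj (isPrim_flipG (S.prim b))
    (exists_component S.π S.nil (isPrim_flipG (S.prim b))).choose_spec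
  split_ifs with h
  · exact h ▸ h1
  · rw [rk, h0 c h, Matrix.rank_zero]

theorem chiSum_flipG (θ : G → ℂ) (a : OG M G) :
    chiSum θ (flipG a) = chiSum (fun g => θ g⁻¹) a := by
  refine Fintype.sum_equiv (Equiv.inv G) _ _ fun g => ?_
  simp [coeff_flipG]

/-- Complex conjugation of characters is the dual permutation of the columns. -/
theorem decN_conjPerm (χ : IrrCharacter G) (b : Fin S.r) :
    S.decN (CfsgLib.Char.conjPerm χ) b = S.decN χ (dualIdx S b) := by
  classical
  have hid : IsIdempotentElem (flipG (S.e b)) := by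
    rw [IsIdempotentElem, ← flipG_mul, (S.idem b).eq]
  have h := chiSum_idem_eq S (irr_classFunction χ) hid
  simp only [red_flipG, S.red_e, rk_flipG, Nat.cast_ite, Nat.cast_one, Nat.cast_zero, ite_mul,
    one_mul, zero_mul, Finset.sum_ite_eq', Finset.mem_univ, if_true] at h
  rw [chiSum_flipG, dec_eq] at h
  have e : (fun g => (χ : G → ℂ) g⁻¹) = (CfsgLib.Char.conjPerm χ : G → ℂ) :=
    funext fun g => by rw [CfsgLib.Char.irr_inv, CfsgLib.Char.conjPerm_apply]
  rw [e] at h
  refine Nat.cast_injective (R := ℂ) ?_
  rw [← dec_eq, ← h]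
  rfl

theorem conjPerm_conjPerm (χ : IrrCharacter G) :
    CfsgLib.Char.conjPerm (CfsgLib.Char.conjPerm χ) = χ :=
  Subtype.ext (funext fun g => by
    rw [CfsgLib.Char.conjPerm_apply, CfsgLib.Char.conjPerm_apply, Complex.conj_conj])

theorem conjPerm_trivIrr : CfsgLib.Char.conjPerm (trivIrr G) = trivIrr G :=
  Subtype.ext (funext fun g => by
    rw [CfsgLib.Char.conjPerm_apply]
    exact map_one _)

/-- The principal block is closed under complex conjugation. -/
theorem conjPerm_mem_principalBlock {χ : IrrCharacter G} (hχ : χ ∈ principalBlock M G) :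
    CfsgLib.Char.conjPerm χ ∈ principalBlock M G := by
  rw [principalBlock_eq, mem_blockOf_iff] at hχ ⊢
  have h := sameBlock_conj hχ
  have e : (fun g => conj ((trivIrr G : G → ℂ) g)) = (trivIrr G : G → ℂ) :=
    funext fun g => map_one _
  rwa [e] at h

theorem conjPerm_mem_principalBlock_iff {χ : IrrCharacter G} :
    CfsgLib.Char.conjPerm χ ∈ principalBlock M G ↔ χ ∈ principalBlock M G :=
  ⟨fun h => conjPerm_conjPerm χ ▸ conjPerm_mem_principalBlock h, conjPerm_mem_principalBlock⟩

theorem inB_dualIdx {b : Fin S.r} (hb : S.InB (principalBlock M G) b) :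
    S.InB (principalBlock M G) (dualIdx S b) := by
  obtain ⟨χ, hχ, hpos⟩ := hb
  exact ⟨_, conjPerm_mem_principalBlock hχ, by
    rwa [← decN_conjPerm, conjPerm_conjPerm]⟩

/-- The dual permutation is an involution on the columns of a block. -/
theorem dualIdx_dualIdx (hM : IsPModular p M) (b : Fin S.r) : dualIdx S (dualIdx S b) = b := by
  obtain ⟨z, hz⟩ := exists_coeffs S hM b
  have h : ∀ χ : IrrCharacter G, S.decN χ (dualIdx S (dualIdx S b)) = S.decN χ b := fun χ => by
    rw [← decN_conjPerm, ← decN_conjPerm, conjPerm_conjPerm]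
  by_contra hne
  have h1 := hz b
  have h2 := hz (dualIdx S (dualIdx S b))
  simp only [h, if_neg (Ne.symm hne)] at h2
  rw [h2, if_pos rfl] at h1
  exact zero_ne_one h1

end CfsgLib.EightSeven
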