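import Cfsg.Agent.Lib.KThree.Dim
import Cfsg.Agent.Lib.EightSeven.DualColumns
import Cfsg.Agent.Lib.Char.Table

/-!
# The dimension of the corner of a primitive idempotent is the sum of the squares of its column
-/

set_option autoImplicit false
set_option linter.unusedSectionVars false

namespace CfsgLib.EightSeven

open Cfsg CfsgLib CfsgLib.GrpRing CfsgLib.Blocks CfsgLib.Blocks.Decomp
open CfsgLib.KThree (upC coeff_upC)
open scoped ComplexConjugate CfsgLib.Char

variable {p : ℕ} {M : Ideal AlgInt} [M.IsPrime] {G : Type*} [Group G] [Fintype G]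

/-- two-sided multiplication -/
noncomputable def sandwich {R : Type*} [CommRing R] (a b : MonoidAlgebra R G) :
    MonoidAlgebra R G →ₗ[R] MonoidAlgebra R G :=
  (LinearMap.mulLeft R a).comp (LinearMap.mulRight R b)

theorem sandwich_apply {R : Type*} [CommRing R] (a b x : MonoidAlgebra R G) :
    sandwich a b x = a * x * b := by
  simp [sandwich, mul_assoc]

/-- the trace of the projection on a corner -/
theorem finrank_sandwich {E F : MonoidAlgebra ℂ G} (hE : E * E = E) (hF : F * F = F) :
    (Module.finrank ℂ (sandwich E F).range : ℂ) =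
      ∑ g, ∑ u, E.coeff u * F.coeff (g⁻¹ * u⁻¹ * g) := by
  classical
  have hproj : LinearMap.IsProj (sandwich E F).range (sandwich E F) :=
    ⟨fun x => LinearMap.mem_range_self _ x, fun x ⟨y, hy⟩ => by
      rw [← hy, sandwich_apply, sandwich_apply]
      calc E * (E * y * F) * F = E * E * y * (F * F) := by simp only [mul_assoc]
        _ = _ := by rw [hE, hF]⟩
  rw [← hproj.trace, LinearMap.trace_eq_matrix_trace ℂ (MonoidAlgebra.basis G ℂ), Matrix.trace]
  refine Finset.sum_congr rfl fun g _ => ?_
  rw [Matrix.diag_apply, LinearMap.toMatrix_apply, sandwich_apply]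
  show (E * MonoidAlgebra.single g 1 * F).coeff g = _
  rw [mul_assoc, coeff_mul_fintype]
  refine Finset.sum_congr rfl fun u _ => ?_
  rw [MonoidAlgebra.coeff_single_mul_apply, one_mul, mul_assoc]

/-- the corner of an idempotent has the sum of the squares of its character values as dimension -/
theorem finrank_corner_C {E : MonoidAlgebra ℂ G} (hE : E * E = E) :
    (Module.finrank ℂ (sandwich E E).range : ℂ) =
      ∑ χ : IrrCharacter G, (∑ w, E.coeff w * (χ : G → ℂ) w) ^ 2 := by
  classical
  set F : G → ℂ := fun h => ∑ g, E.coeff (g⁻¹ * h * g) with hF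
  have hFc : IsClassFunction G F := fun h a => by
    show F _ = F _
    refine Fintype.sum_equiv (Equiv.mulLeft a⁻¹) _ _ fun g => ?_
    simp [mul_assoc]
  have hin : ∀ χ : IrrCharacter G,
      classInner F (χ : G → ℂ) = ∑ w, E.coeff w * (χ : G → ℂ) w⁻¹ := fun χ => by
    have hn : (Nat.card G : ℂ) ≠ 0 := Nat.cast_ne_zero.mpr Nat.card_pos.ne'
    rw [classInner]
    simp only [hF, Finset.sum_mul]
    rw [Finset.sum_comm, Finset.sum_congr rfl (g := fun _ : G => ∑ w, E.coeff w * (χ : G → ℂ) w⁻¹)
      fun g _ => ?_, Finset.sum_const, Finset.card_univ, nsmul_eq_mul, ← Nat.card_eq_fintype_card,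
      inv_mul_cancel_left₀ hn]
    refine Fintype.sum_equiv ((Equiv.mulLeft g⁻¹).trans (Equiv.mulRight g)) _ _ fun h => ?_
    simp only [Equiv.trans_apply, Equiv.coe_mulLeft, Equiv.coe_mulRight]
    rw [CfsgLib.Char.irr_inv]
    congr 2
    exact (CfsgLib.Char.eq_of_isConj (irr_classFunction χ)
      (isConj_iff.mpr ⟨g⁻¹, by rw [inv_inv]⟩))
  have hexp : ∀ h, F h = ∑ χ : IrrCharacter G, classInner F (χ : G → ℂ) * (χ : G → ℂ) h := fun h => by
    conv_lhs => rw [Char.classFunction_expansion hFc]
    simp [Finset.sum_apply]
  rw [finrank_sandwich hE hE, Finset.sum_comm]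
  calc ∑ u, ∑ g, E.coeff u * E.coeff (g⁻¹ * u⁻¹ * g) = ∑ u, E.coeff u * F u⁻¹ := by
        simp only [hF, Finset.mul_sum]
    _ = ∑ χ : IrrCharacter G, (∑ w, E.coeff w * (χ : G → ℂ) w⁻¹) ^ 2 := by
        rw [Finset.sum_congr rfl fun u _ => by rw [hexp u⁻¹, Finset.mul_sum], Finset.sum_comm]
        refine Finset.sum_congr rfl fun χ _ => ?_
        rw [pow_two]
        conv_rhs => rw [Finset.sum_mul]
        exact Finset.sum_congr rfl fun u _ => by rw [hin]; ring
    _ = _ := by
        refine Fintype.sum_equiv CfsgLib.Char.conjPerm _ _ fun χ => ?_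
        congr 1
        exact Finset.sum_congr rfl fun w _ => by
          rw [CfsgLib.Char.conjPerm_apply, CfsgLib.Char.irr_inv]

/-- the rank of a reduced corner is at most the complex rank -/
theorem finrank_sandwich_le (E F : OG M G) :
    Module.finrank (ResField M) (sandwich (red E) (red F)).range ≤
      Module.finrank ℂ (sandwich (upC E) (upC F)).range := by
  classical
  let b := Module.finBasis (ResField M) (sandwich (red E) (red F)).range
  choose x hx using fun i => (b i).2
  choose X hXmem hX using fun i => exists_lift_fix (M := M) (S := (∅ : Set G))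
    (a := x i) (mem_fixAlg.mpr fun s hs => absurd hs (Set.notMem_empty s))
  set w := fun i g => ((E * X i * F).coeff g : ℂ) with hw
  have hwr : ∀ i g, res M (w i g) = ((b i : _) : KG M G).coeff g := fun i g => by
    rw [hw, res_coe, ← coeff_red, map_mul, map_mul, hX, ← hx i, sandwich_apply]
  have hli : LinearIndependent ℂ w := by
    refine EqualDegree.indep_lift_loc w (fun i g => ((E * X i * F).coeff g).2) ?_
    have : LinearIndependent (ResField M) fun i => ((b i : _) : KG M G) :=
      b.linearIndependent.map' (Submodule.subtype _) (Submodule.ker_subtype _)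
    rw [Fintype.linearIndependent_iff] at this ⊢
    refine fun c hc => this c (MonoidAlgebra.ext (Finsupp.ext fun g => ?_))
    have h := congrFun hc g
    simp only [Finset.sum_apply, Pi.smul_apply, smul_eq_mul, Pi.zero_apply, hwr] at h
    simpa [MonoidAlgebra.coeff_sum] using h
  have hC : LinearIndependent ℂ fun i => (⟨upC E * upC (X i) * upC F, upC (X i),
      sandwich_apply _ _ _⟩ : (sandwich (upC E) (upC F)).range) := by
    rw [Fintype.linearIndependent_iff] at hli ⊢
    refine fun c hc => hli c (funext fun g => ?_)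
    have h := congrArg (fun z => (Subtype.val z).coeff g) hc
    simp only [AddSubmonoidClass.coe_finsetSum, SetLike.val_smul, MonoidAlgebra.coeff_sum,
      Finsupp.finsetSum_apply, MonoidAlgebra.coeff_smul, Finsupp.smul_apply, smul_eq_mul,
      ← map_mul, coeff_upC, ZeroMemClass.coe_zero] at h
    simpa [Finset.sum_apply, hw] using h
  simpa using hC.fintype_card_le_finrank

theorem four_pieces {R : Type*} [Ring R] (e x : R) :
    x = e * x * e + e * x * (1 - e) + ((1 - e) * x * e + (1 - e) * x * (1 - e)) := by
  noncomm_ring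

/-- Reduction does not lose dimensions of corners. -/
theorem finrank_corner_red {E : OG M G} (hE : IsIdempotentElem E) :
    Module.finrank (ResField M) (sandwich (red E) (red E)).range =
      Module.finrank ℂ (sandwich (upC E) (upC E)).range := by
  classical
  set F := 1 - E
  set rK := fun A B : OG M G => Module.finrank (ResField M) (sandwich (red A) (red B)).range with hrK
  have h11 : rK E E ≤ _ := finrank_sandwich_le E E
  have h12 : rK E F ≤ _ := finrank_sandwich_le E F
  have h21 : rK F E ≤ _ := finrank_sandwich_le F E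
  have h22 : rK F F ≤ _ := finrank_sandwich_le F F
  have hup : ∀ {A : OG M G}, IsIdempotentElem A → upC A * upC A = upC A := fun {A} hA => by
    rw [← map_mul, hA.eq]
  have hC : Module.finrank ℂ (sandwich (upC E) (upC E)).range +
      Module.finrank ℂ (sandwich (upC E) (upC F)).range +
      (Module.finrank ℂ (sandwich (upC F) (upC E)).range +
      Module.finrank ℂ (sandwich (upC F) (upC F)).range) = Nat.card G := by
    refine Nat.cast_injective (R := ℂ) ?_
    push_cast
    rw [finrank_sandwich (hup hE) (hup hE), finrank_sandwich (hup hE) (hup hE.one_sub),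
      finrank_sandwich (hup hE.one_sub) (hup hE), finrank_sandwich (hup hE.one_sub) (hup hE.one_sub)]
    simp only [← Finset.sum_add_distrib]
    rw [Nat.card_eq_fintype_card, ← Finset.card_univ, Finset.cast_card]
    refine Finset.sum_congr rfl fun g _ => ?_
    have e : ∀ u, (upC E).coeff u + (upC F).coeff u = (1 : MonoidAlgebra ℂ G).coeff u := fun u => by
      rw [← Finsupp.add_apply, ← MonoidAlgebra.coeff_add, ← map_add, add_sub_cancel, map_one]
    calc ∑ u, _ = ∑ u, ((upC E).coeff u + (upC F).coeff u) *
          ((upC E).coeff (g⁻¹ * u⁻¹ * g) + (upC F).coeff (g⁻¹ * u⁻¹ * g)) :=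
          Finset.sum_congr rfl fun u _ => by ring
      _ = 1 := by
        simp only [e, MonoidAlgebra.one_def, MonoidAlgebra.coeff_single, Finsupp.single_apply,
          ite_mul, one_mul, zero_mul, Finset.sum_ite_eq, Finset.mem_univ, if_true]
        rw [if_pos (by group)]
  have hle : (⊤ : Submodule (ResField M) (KG M G)) ≤
      ((sandwich (red E) (red E)).range ⊔ (sandwich (red E) (red F)).range) ⊔
        ((sandwich (red F) (red E)).range ⊔ (sandwich (red F) (red F)).range) := fun a _ => by
    rw [four_pieces (red E) a]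
    have hF : red F = 1 - red E := by rw [map_sub, map_one]
    exact Submodule.add_mem_sup
      (Submodule.add_mem_sup ⟨a, sandwich_apply _ _ _⟩ ⟨a, by rw [sandwich_apply, hF]⟩)
      (Submodule.add_mem_sup ⟨a, by rw [sandwich_apply, hF]⟩ ⟨a, by rw [sandwich_apply, hF]⟩)
  have h1 := Submodule.finrank_mono hle
  rw [finrank_top, Module.finrank_eq_card_basis (MonoidAlgebra.basis G (ResField M)),
    ← Nat.card_eq_fintype_card] at h1
  have h2 := h1.trans ((Submodule.finrank_add_le_finrank_add_finrank _ _).trans (add_le_add
    (Submodule.finrank_add_le_finrank_add_finrank _ _)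
    (Submodule.finrank_add_le_finrank_add_finrank _ _)))
  have h3 : Nat.card G ≤ rK E E + rK E F + (rK F E + rK F F) := h2
  show rK E E = _
  omega

open Classical in
/-- **The diagonal Cartan number is the dimension of the corner.** -/
theorem sum_sq_decN (S : Simples M G) {B : Set (IrrCharacter G)} (hB : IsPBlock M B) {b : Fin S.r}
    (hb : S.InB B b) :
    ∑ χ : IrrCharacter G with χ ∈ B, S.decN χ b ^ 2 =
      Module.finrank (ResField M) (sandwich (S.j b) (S.j b)).range := by
  rw [← S.red_e b, finrank_corner_red (S.idem b)]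
  refine Nat.cast_injective (R := ℂ) ?_
  rw [finrank_corner_C (by rw [← map_mul, (S.idem b).eq]), Finset.sum_filter, Nat.cast_sum]
  refine Finset.sum_congr rfl fun χ _ => ?_
  have e : ∑ w, (upC (S.e b)).coeff w * (χ : G → ℂ) w = (S.decN χ b : ℂ) := by
    rw [← dec_eq]
    exact Finset.sum_congr rfl fun w _ => by rw [coeff_upC]
  rw [e]
  split_ifs with h
  · push_cast; rfl
  · rw [decN_eq_zero S hB hb h]; simp

end CfsgLib.EightSeven
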