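import Cfsg.Agent.Lib.EightSeven.CornerDim
import Cfsg.Agent.Lib.Blocks.Reynolds
import Cfsg.Agent.Lib.Blocks.PairLocalization
import Cfsg.Agent.Lib.Char.BrauerInd
import Cfsg.Agent.Lib.Char.MeanValueVirtual
import Cfsg.Agent.Lib.SelfDualEven.Core
import Mathlib.Algebra.CharP.Two

/-!
# All Cartan diagonals are even when the Sylow two-subgroups have exponent two

The diagonal Cartan number is the coefficient at `1` of the square of `e ζ`, with `ζ` the sum of
the solutions of `x ^ 2 = 1`; by Frobenius' divisibility the latter is in the ideal.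
-/

set_option autoImplicit false
set_option linter.unusedSectionVars false

namespace CfsgLib.EightSeven

open Cfsg CfsgLib CfsgLib.GrpRing CfsgLib.Blocks CfsgLib.Blocks.Decomp
open CfsgLib.KThree (upC coeff_upC)
open scoped ComplexConjugate CfsgLib.Char

universe u

variable {p : ℕ} {G : Type u} [Group G] [Fintype G]

/-- A multiple of the indicator of the `p`-elements is a generalised character. -/
theorem isGeneralized_pInd (hp : p.Prime) :
    IsGeneralizedCharacter G
      (fun g => ((Nat.card G / p ^ (Nat.card G).factorization p : ℕ) : ℂ) * pInd p g) := by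
  classical
  have : Fact p.Prime := ⟨hp⟩
  set m : ℕ := Nat.card G / p ^ (Nat.card G).factorization p with hm
  refine Char.brauer_characterisation (fun g h => by rw [isClassFunction_pInd p g h]) ?_
  intro E q hq hE
  have := Char.isNilpotent_of_isElementary hq hE
  obtain ⟨Q⟩ : Nonempty (Sylow p E) := inferInstance
  have hQn : (Q : Subgroup E).Normal := Q.normal_of_normalizerCondition Group.normalizerCondition_of_isNilpotent
  obtain ⟨H, hH⟩ : ∃ H : Subgroup E, H = (Q : Subgroup E) := ⟨_, rfl⟩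
  have hHn : H.Normal := hH ▸ hQn
  have hHp : IsPGroup p H := hH ▸ Q.isPGroup'
  have hHmax : ∀ {R : Subgroup E}, IsPGroup p R → H ≤ R → R = H := fun hR hle => by
    subst hH
    exact Q.is_maximal' hR hle
  have hiff : ∀ e : E, (∃ k : ℕ, orderOf (e : G) = p ^ k) ↔ e ∈ H := fun e => by
    constructor
    · rintro ⟨k, hk⟩
      rw [Subgroup.orderOf_coe] at hk
      have hz : IsPGroup p (Subgroup.zpowers e) :=
        IsPGroup.of_card (n := k) (by rw [Nat.card_zpowers, hk])
      rw [← hHmax (IsPGroup.to_sup_of_normal_left hHp hz) le_sup_left]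
      exact le_sup_right (a := H) (Subgroup.mem_zpowers e)
    · intro he
      obtain ⟨k, hk⟩ := IsPGroup.iff_orderOf.mp hHp ⟨e, he⟩
      exact ⟨k, by rw [← hk, Subgroup.orderOf_mk, Subgroup.orderOf_coe]⟩
  have hidx : H.index ∣ m := by
    have h1 : H.index ∣ Nat.card G := (H.index_dvd_card).trans (Subgroup.card_subgroup_dvd_card E)
    refine Nat.Coprime.dvd_of_dvd_mul_left (Nat.Coprime.pow_right _ ?_)
      (show H.index ∣ p ^ (Nat.card G).factorization p * m by
        rw [hm, Nat.ordProj_mul_ordCompl_eq_self]; exact h1)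
    exact ((hp.coprime_iff_not_dvd).mpr (hH ▸ Q.not_dvd_index)).symm
  obtain ⟨c, hc⟩ := hidx
  have hone : (fun e : E => (m : ℂ) * pInd p (e : G)) =
      ((c : ℤ) : ℂ) • indFun H (fun _ => (1 : ℂ)) := by
    funext e
    have hmem : ∀ x : E, x⁻¹ * e * x ∈ H ↔ e ∈ H := fun x => by
      constructor
      · intro h
        have := hHn.conj_mem _ h x
        rwa [show x * (x⁻¹ * e * x) * x⁻¹ = e by group] at this
      · intro h
        have := hHn.conj_mem _ h x⁻¹
        rwa [inv_inv] at this
    rw [Pi.smul_apply, indFun, smul_eq_mul]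
    by_cases he : e ∈ H
    · rw [pInd_of_pElement ((hiff e).mpr he), mul_one, Finset.sum_congr rfl fun x _ =>
        show extendByZero H (fun _ => (1 : ℂ)) (x⁻¹ * e * x) = 1 from
          Char.extendByZero_coe H _ ⟨_, (hmem x).mpr he⟩]
      rw [Finset.sum_const, Finset.card_univ, nsmul_one, ← Nat.card_eq_fintype_card,
        ← H.card_mul_index, Nat.cast_mul,
        inv_mul_cancel_left₀ (Nat.cast_ne_zero.mpr Nat.card_pos.ne' : (Nat.card H : ℂ) ≠ 0), hc]
      push_cast
      ring
    · rw [pInd_of_not fun h => he ((hiff e).mp h), mul_zero, Finset.sum_eq_zero fun x _ =>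
        show extendByZero H (fun _ => (1 : ℂ)) (x⁻¹ * e * x) = 0 from
          extendByZero_eq_zero H _ fun h => he ((hmem x).mp h), mul_zero, mul_zero]
  rw [hone]
  exact Char.isGeneralized_intCast_smul
    (Char.isGeneralized_indFun H Char.isGeneralized_one) _

/-- **Frobenius.** The values at the `p`-elements sum to a multiple of the `p`-part of the order. -/
theorem exists_int_sum_pInd (hp : p.Prime) (χ : IrrCharacter G) :
    ∃ s : ℤ, ∑ g, pInd p g * (χ : G → ℂ) g = ((p ^ (Nat.card G).factorization p : ℕ) : ℂ) * s := by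
  classical
  set m : ℕ := Nat.card G / p ^ (Nat.card G).factorization p with hm
  obtain ⟨n, hn⟩ := Char.exists_int_classInner (isGeneralized_pInd (G := G) hp)
    (Char.isGeneralized_conj (Char.isGeneralized_of_isIrr χ.2))
  refine ⟨n, ?_⟩
  rw [← hn, classInner]
  simp only [Complex.conj_conj, mul_assoc, ← Finset.mul_sum]
  have hmG : ((p ^ (Nat.card G).factorization p : ℕ) : ℂ) * (m : ℂ) = (Nat.card G : ℂ) := by
    rw [← Nat.cast_mul, hm, Nat.ordProj_mul_ordCompl_eq_self]
  rw [← hm]
  have hG : (Nat.card G : ℂ) ≠ 0 := Nat.cast_ne_zero.mpr Nat.card_pos.ne'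
  field_simp
  rw [← hmG]
  ring

section Corner

variable {k : Type*} [Field k] [CharP k 2] [DecidableEq G]

theorem coeff_one_comm (x y : MonoidAlgebra k G) : (x * y).coeff 1 = (y * x).coeff 1 := by
  rw [coeff_mul_fintype, coeff_mul_fintype]
  refine Fintype.sum_equiv (Equiv.inv G) _ _ fun u => ?_
  simp [mul_comm]

/-- The trace of a corner in characteristic two. -/
theorem corner_trace_two {e : MonoidAlgebra k G} (he : e * e = e) :
    ∑ g : G, (e * MonoidAlgebra.single g 1 * e).coeff g =
      (e * (∑ s : G with s * s = 1, MonoidAlgebra.single s 1) *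
        (e * (∑ s : G with s * s = 1, MonoidAlgebra.single s 1))).coeff 1 ^ 2 := by
  let B : G → G → k := fun g h =>
    (e * MonoidAlgebra.single g 1 * (e * MonoidAlgebra.single h 1)).coeff 1
  have hsym : ∀ g h, B g h = B h g := fun g h => coeff_one_comm _ _
  have hB : ∀ g w, (e * MonoidAlgebra.single g 1 * e).coeff w = B g w⁻¹ := fun g w => by
    show _ = (e * MonoidAlgebra.single g 1 * (e * MonoidAlgebra.single w⁻¹ 1)).coeff 1
    rw [← mul_assoc, MonoidAlgebra.coeff_mul_single_apply]
    simp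
  have hexp : ∀ g, (e * MonoidAlgebra.single g 1 * e).coeff g =
      ∑ w, B g w⁻¹ * B w g⁻¹ := fun g => by
    set x := e * MonoidAlgebra.single g 1 * e with hx
    have hxe : e * x * e = x := by
      rw [hx, show e * (e * MonoidAlgebra.single g 1 * e) * e =
        e * e * MonoidAlgebra.single g 1 * (e * e) by simp only [mul_assoc], he]
    have hxs : x = ∑ w, MonoidAlgebra.single w (x.coeff w) := by
      refine MonoidAlgebra.ext (Finsupp.ext fun w => ?_)
      simp [MonoidAlgebra.coeff_sum, Finsupp.single_apply]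
    calc x.coeff g = (e * (∑ w, MonoidAlgebra.single w (x.coeff w)) * e).coeff g := by
          rw [← hxs, hxe]
      _ = ∑ w, x.coeff w * (e * MonoidAlgebra.single w 1 * e).coeff g := by
          rw [Finset.mul_sum, Finset.sum_mul, MonoidAlgebra.coeff_sum, Finsupp.finsetSum_apply]
          refine Finset.sum_congr rfl fun w _ => ?_
          rw [show MonoidAlgebra.single w (x.coeff w) = x.coeff w • MonoidAlgebra.single w (1 : k)
            by simp, mul_smul_comm, smul_mul_assoc, MonoidAlgebra.coeff_smul, Finsupp.smul_apply,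
            smul_eq_mul]
      _ = _ := Finset.sum_congr rfl fun w _ => by rw [hB g w, hB w g]
  set X : Finset G := Finset.univ.filter fun s => s * s = 1 with hX
  have hinv : ∀ s : G, s * s = 1 ↔ s⁻¹ = s := fun s =>
    ⟨inv_eq_of_mul_eq_one_right, fun h => mul_eq_one_iff_eq_inv.mpr h.symm⟩
  rw [Finset.sum_congr rfl fun g _ => hexp g, ← Fintype.sum_prod_type']
  rw [CfsgLib.SelfDualEven.sum_eq_sum_fix (fun a : G × G => (a.1⁻¹, a.2⁻¹))
    (fun a => by simp) _ (fun a => by
      simp only [inv_inv]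
      rw [hsym a.1⁻¹ a.2, hsym a.2⁻¹ a.1, mul_comm])]
  have hfilt : (Finset.univ.filter fun a : G × G => (a.1⁻¹, a.2⁻¹) = a) = X ×ˢ X := by
    ext ⟨a, b⟩
    simp [hX, hinv]
  rw [hfilt, Finset.sum_congr rfl fun a ha => show B a.1 a.2⁻¹ * B a.2 a.1⁻¹ = B a.1 a.2 ^ 2 by
      obtain ⟨h1, h2⟩ := Finset.mem_product.mp ha
      rw [(hinv _).mp (Finset.mem_filter.mp h1).2, (hinv _).mp (Finset.mem_filter.mp h2).2,
        hsym a.2 a.1, sq],
    ← CharTwo.sum_sq, Finset.sum_product]
  congr 1
  simp only [B, Finset.mul_sum, Finset.sum_mul, MonoidAlgebra.coeff_sum, Finsupp.finsetSum_apply]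
  exact Finset.sum_comm

end Corner

open Classical in
/-- **The diagonal Cartan numbers are even.** -/
theorem even_sum_sq_decN {M : Ideal AlgInt} [M.IsPrime] (hM : IsPModular 2 M)
    (hexp : ∀ g : G, (∃ j : ℕ, orderOf g = 2 ^ j) → g * g = 1)
    (S : Simples M G) {B : Set (IrrCharacter G)} (hB : IsPBlock M B) {b : Fin S.r}
    (hb : S.InB B b)
    (hdef : ∀ χ ∈ B, ¬ 2 ^ (Nat.card G).factorization 2 ∣ charDegree (χ : G → ℂ)) :
    Even (∑ χ : IrrCharacter G with χ ∈ B, S.decN χ b ^ 2) := by
  haveI : CharP (ResField M) 2 := charP_resField hM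
  have hiff : ∀ g : G, (∃ j : ℕ, orderOf g = 2 ^ j) ↔ g * g = 1 := fun g => by
    refine ⟨hexp g, fun h => ?_⟩
    obtain ⟨j, -, hj⟩ := (Nat.dvd_prime_pow Nat.prime_two).mp
      (show orderOf g ∣ 2 ^ 1 from orderOf_dvd_of_pow_eq_one (by rw [pow_one, sq, h]))
    exact ⟨j, hj⟩
  have hint : ∀ g : G, MemLocalRing M (pInd 2 g : ℂ) := fun g => by
    by_cases h : ∃ j : ℕ, orderOf g = 2 ^ j
    · rw [pInd_of_pElement h]; exact memLocalRing_one
    · rw [pInd_of_not h]; exact memLocalRing_zero
  set Z : OG M G := ofFun fun g => ⟨pInd 2 g, hint g⟩ with hZ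
  set e := S.e b with he
  have hred : red Z = ∑ s : G with s * s = 1, MonoidAlgebra.single s (1 : ResField M) := by
    refine MonoidAlgebra.ext (Finsupp.ext fun g => ?_)
    rw [coeff_red, hZ, coeff_ofFun]
    rw [← res_coe]
    show res M (pInd 2 g) = _
    simp only [MonoidAlgebra.coeff_sum, Finsupp.finsetSum_apply, MonoidAlgebra.coeff_single,
      Finsupp.single_apply, Finset.sum_ite_eq', Finset.mem_filter, Finset.mem_univ, true_and]
    by_cases h : g * g = 1
    · rw [if_pos h, pInd_of_pElement ((hiff g).mpr h)]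
      exact res_mk (M := M) memLocalRing_one |>.trans (map_one _)
    · rw [if_neg h, pInd_of_not fun h' => h ((hiff g).mp h'), res_eq_zero memLocalIdeal_zero]
  have hcomm : e * Z = Z * e := by
    refine MonoidAlgebra.ext (Finsupp.ext fun g => Subtype.ext ?_)
    rw [coeff_mul_fintype, coeff_mul_fintype, AddSubmonoidClass.coe_finsetSum,
      AddSubmonoidClass.coe_finsetSum]
    have h1 := congrFun (conv_comm (f₁ := pInd (G := G) 2) (f₂ := fun x => ((e.coeff x : locRing M) : ℂ))
      (isClassFunction_pInd 2)) g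
    simp only [conv] at h1
    simp only [MulMemClass.coe_mul, hZ, coeff_ofFun]
    exact h1.symm
  -- the coefficient at one of the square
  have hval : (((e * Z * (e * Z)).coeff 1 : locRing M) : ℂ) =
      (Nat.card G : ℂ)⁻¹ * ∑ χ : IrrCharacter G,
        omega (χ : G → ℂ) (pInd 2) ^ 2 * (χ : G → ℂ) 1 * (S.decN χ b : ℂ) := by
    have h2 : e * Z * (e * Z) = e * (Z * Z) := by
      rw [show e * Z * (e * Z) = e * (Z * e) * Z by simp only [mul_assoc], ← hcomm,
        show e * (e * Z) * Z = e * e * (Z * Z) by simp only [mul_assoc], (S.idem b).eq]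
    have h3 : conv (pInd (G := G) 2) (pInd 2) =
        ofOmega (fun χ : IrrCharacter G => omega (χ : G → ℂ) (pInd 2) ^ 2) := by
      rw [show (fun χ : IrrCharacter G => omega (χ : G → ℂ) (pInd 2) ^ 2) =
        (fun χ : IrrCharacter G => omega (χ : G → ℂ) (pInd 2)) *
          fun χ : IrrCharacter G => omega (χ : G → ℂ) (pInd 2) from funext fun χ => sq _,
        ofOmega_mul, ofOmega_omega (isClassFunction_pInd 2)]
    rw [h2, coeff_mul_fintype, AddSubmonoidClass.coe_finsetSum]
    have h4 : ∀ w, (((Z * Z).coeff w : locRing M) : ℂ) = conv (pInd 2) (pInd 2) w := fun w => by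
      rw [coeff_mul_fintype, AddSubmonoidClass.coe_finsetSum, conv]
      exact Finset.sum_congr rfl fun y _ => by simp [hZ, coeff_ofFun]
    simp only [MulMemClass.coe_mul, h4, h3, ofOmega, mul_one, Finset.mul_sum]
    rw [Finset.sum_comm]
    refine Finset.sum_congr rfl fun χ _ => ?_
    rw [← dec_eq, Simples.dec, ← he, chiSum, Finset.mul_sum, Finset.mul_sum]
    refine Finset.sum_congr rfl fun w _ => ?_
    rw [Char.irr_inv χ w, Complex.conj_conj]
    ring
  have hzero : MemLocalIdeal M (((e * Z * (e * Z)).coeff 1 : locRing M) : ℂ) := by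
    rw [hval, Finset.mul_sum]
    refine memLocalIdeal_sum _ _ fun χ _ => ?_
    rcases Nat.eq_zero_or_pos (S.decN χ b) with hD | hD
    · rw [hD, Nat.cast_zero, mul_zero, mul_zero]
      exact memLocalIdeal_zero
    have hχB : χ ∈ B := by
      by_contra h
      exact hD.ne' (decN_eq_zero S hB hb h)
    obtain ⟨s, hs⟩ := exists_int_sum_pInd (G := G) Nat.prime_two χ
    set a := (Nat.card G).factorization 2
    obtain ⟨d, hd0, hd⟩ := CfsgLib.Char.exists_nat_degree_irr χ.2
    have hdn : charDegree (χ : G → ℂ) = d := by simp [charDegree, hd]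
    obtain ⟨i, d', hd', hdeq⟩ := Nat.exists_eq_pow_mul_and_not_dvd hd0.ne' 2 (by norm_num)
    have hia : i < a := by
      by_contra hle
      exact hdef χ hχB (by rw [hdn, hdeq]; exact (pow_dvd_pow 2 (not_lt.mp hle)).mul_right _)
    have hh : ¬ 2 ∣ Nat.card G / 2 ^ a := Nat.not_dvd_ordCompl Nat.prime_two Nat.card_pos.ne'
    set h := Nat.card G / 2 ^ a with hh'
    have hG : (Nat.card G : ℂ) = 2 ^ a * (h : ℂ) := by
      rw [hh', show (2 : ℂ) ^ a = ((2 ^ a : ℕ) : ℂ) by push_cast; rfl, ← Nat.cast_mul,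
        Nat.ordProj_mul_ordCompl_eq_self]
    have hh0 : (h : ℂ) ≠ 0 := Nat.cast_ne_zero.mpr fun h0 => hh (h0 ▸ dvd_zero 2)
    have hd'0 : (d' : ℂ) ≠ 0 := Nat.cast_ne_zero.mpr fun h0 => hd' (h0 ▸ dvd_zero 2)
    obtain ⟨j, hj⟩ : ∃ j, a = i + (j + 1) := ⟨a - i - 1, by omega⟩
    have key : (Nat.card G : ℂ)⁻¹ * (omega (χ : G → ℂ) (pInd 2) ^ 2 * (χ : G → ℂ) 1 *
        (S.decN χ b : ℂ)) =
        ((2 : ℕ) : ℂ) * (((2 ^ j * S.decN χ b : ℕ) : ℂ) * ((s ^ 2 : ℤ) : ℂ) *
          ((h : ℂ)⁻¹ * (d' : ℂ)⁻¹)) := by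
      rw [omega, hs, hd, hdeq, hG]
      push_cast
      rw [hj]
      field_simp
      ring
    rw [key]
    exact memLocalIdeal_mul_right (memLocalIdeal_p hM)
      (memLocalRing_mul (memLocalRing_mul (memLocalRing_natCast _) (memLocalRing_intCast _))
        (memLocalRing_mul (memLocalRing_natCast_inv hM hh) (memLocalRing_natCast_inv hM hd')))
  -- reduce
  rw [sum_sq_decN S hB hb, even_iff_two_dvd, ← CharP.cast_eq_zero_iff (ResField M) 2]
  have hid : S.j b * S.j b = S.j b := by rw [← S.red_e b, ← map_mul, (S.idem b).eq]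
  have hproj : LinearMap.IsProj (sandwich (S.j b) (S.j b)).range (sandwich (S.j b) (S.j b)) :=
    ⟨fun x => LinearMap.mem_range_self _ x, fun x ⟨y, hy⟩ => by
      rw [← hy, sandwich_apply, sandwich_apply]
      calc S.j b * (S.j b * y * S.j b) * S.j b = S.j b * S.j b * y * (S.j b * S.j b) := by
            simp only [mul_assoc]
        _ = _ := by rw [hid]⟩
  rw [← hproj.trace, LinearMap.trace_eq_matrix_trace (ResField M)
    (MonoidAlgebra.basis G (ResField M)), Matrix.trace]
  calc _ = ∑ g : G, (S.j b * MonoidAlgebra.single g 1 * S.j b).coeff g :=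
        Finset.sum_congr rfl fun g _ => by
          rw [Matrix.diag_apply, LinearMap.toMatrix_apply, sandwich_apply]
          rfl
    _ = (red (e * Z * (e * Z))).coeff 1 ^ 2 := by
        rw [corner_trace_two hid, map_mul, map_mul, hred, he, S.red_e b]
    _ = 0 := by
        rw [coeff_red, ← res_coe, res_eq_zero hzero, sq, mul_zero]

end CfsgLib.EightSeven
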