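import Cfsg.Agent.Lib.EightSeven.EvenDiag
import Cfsg.Agent.Lib.Blocks.BrauerFeit
import Mathlib.Data.ZMod.Basic

/-!
# Virtual projective characters have even norm when the Sylow two-subgroups have exponent two
-/

set_option autoImplicit false
set_option linter.unusedSectionVars false

namespace CfsgLib.EightSeven

open Cfsg CfsgLib CfsgLib.GrpRing CfsgLib.Blocks CfsgLib.Blocks.Decomp
open scoped ComplexConjugate CfsgLib.Char

universe u

variable {G : Type u} [Group G] [Fintype G]

/-- No member of the principal block has degree divisible by the whole `p`-part of the order. -/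
theorem not_pow_dvd_degree_principal {p : ℕ} {M : Ideal AlgInt} (hM : IsPModular p M)
    (hpG : p ∣ Nat.card G) {χ : IrrCharacter G} (hχ : χ ∈ principalBlock M G) :
    ¬ p ^ (Nat.card G).factorization p ∣ charDegree (χ : G → ℂ) := by
  classical
  have := isPrime_of_isPModular hM
  intro hdvd
  have hB := isPBlock_principalBlock (M := M) (G := G)
  have ht : trivIrr G ∈ principalBlock M G := by rw [principalBlock_eq]; exact mem_blockOf_self _
  have hinf : sInf ((fun ψ : IrrCharacter G => (charDegree (ψ : G → ℂ)).factorization p) ''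
      principalBlock M G) = 0 :=
    Nat.eq_zero_of_le_zero (Nat.sInf_le ⟨trivIrr G, ht, by simp [charDegree, trivIrr]⟩)
  have h := sum_pow_heights_le hM hB
  have h1 : p ^ (2 * blockHeight p (principalBlock M G) (χ : G → ℂ)) ≤
      ∑ ψ : IrrCharacter G with ψ ∈ principalBlock M G,
        p ^ (2 * blockHeight p (principalBlock M G) (ψ : G → ℂ)) :=
    Finset.single_le_sum (f := fun ψ : IrrCharacter G =>
      p ^ (2 * blockHeight p (principalBlock M G) (ψ : G → ℂ))) (fun _ _ => Nat.zero_le _)
      (Finset.mem_filter.mpr ⟨Finset.mem_univ χ, hχ⟩)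
  simp only [blockHeight, blockDefect, hinf, Nat.sub_zero] at h h1
  set a := (Nat.card G).factorization p
  have ha : 1 ≤ a := hM.1.factorization_pos_of_dvd Nat.card_pos.ne' hpG
  have hle : a ≤ (charDegree (χ : G → ℂ)).factorization p :=
    (hM.1.pow_dvd_iff_le_factorization (irr_degree_eq χ).2.ne').mp hdvd
  have h2 : p ^ (2 * a) ≤ p ^ (2 * (charDegree (χ : G → ℂ)).factorization p) :=
    Nat.pow_le_pow_right hM.1.pos (by omega)
  have h3 : 2 ^ 2 ≤ p ^ (2 * a) :=
    (Nat.pow_le_pow_left hM.1.two_le 2).trans (Nat.pow_le_pow_right hM.1.pos (by omega))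
  omega

/-- A symmetric integral form with even diagonal is even. -/
theorem even_quadratic {J : Type*} [Fintype J] (C : J → J → ℤ) (hC : ∀ i j, C i j = C j i)
    (hd : ∀ i, Even (C i i)) (l : J → ℤ) : Even (∑ i, ∑ j, l i * l j * C i j) := by
  classical
  rw [← ZMod.intCast_eq_zero_iff_even]
  push_cast
  rw [← Fintype.sum_prod_type', CfsgLib.SelfDualEven.sum_eq_sum_fix (fun a : J × J => (a.2, a.1))
    (fun a => rfl) _ (fun a => by rw [hC a.1 a.2]; ring)]
  refine Finset.sum_eq_zero fun a ha => ?_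
  obtain ⟨i, j⟩ := a
  obtain rfl : j = i := congrArg Prod.fst (Finset.mem_filter.mp ha).2
  rw [show (C j j : ZMod 2) = 0 from ZMod.intCast_eq_zero_iff_even.mpr (hd j), mul_zero]

open Classical in
/-- **Virtual projective characters have even norm.** -/
theorem even_norm {M : Ideal AlgInt} (hM : IsPModular 2 M) (hpG : 2 ∣ Nat.card G)
    (hexp : ∀ g : G, (∃ j : ℕ, orderOf g = 2 ^ j) → g * g = 1) (w : IrrCharacter G → ℤ)
    (hw : ∀ χ, w χ ≠ 0 → χ ∈ principalBlock M G)
    (h0 : ∀ g : G, ¬ IsPRegular 2 g → ∑ χ, (w χ : ℂ) * (χ : G → ℂ) g = 0) :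
    Even (∑ χ, w χ ^ 2) := by
  haveI := isPrime_of_isPModular hM
  obtain ⟨S⟩ := nonempty_simples M G
  have hB := isPBlock_principalBlock (M := M) (G := G)
  let J := {b : Fin S.r // S.InB (principalBlock M G) b}
  choose z₀ hz₀ using fun b : J => exists_block_coeffs S hM hB b.2
  let z : J → IrrCharacter G → ℤ := fun b χ => if χ ∈ principalBlock M G then z₀ b χ else 0
  let l : J → ℤ := fun b => ∑ χ, w χ * z b χ
  have hφ : ∀ (b : J) (y : G), IsPRegular 2 y →
      ∑ χ : IrrCharacter G, (z b χ : ℂ) * (χ : G → ℂ) y = S.brauer b.1 y := fun b y hy => by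
    calc ∑ χ : IrrCharacter G, (z b χ : ℂ) * (χ : G → ℂ) y
        = ∑ χ : IrrCharacter G, ∑ c, S.brauer c y *
            ((if χ ∈ principalBlock M G then z₀ b χ * (S.decN χ c : ℤ) else 0 : ℤ) : ℂ) := by
          refine Finset.sum_congr rfl fun χ _ => ?_
          rw [value_eq S hM (irr_classFunction χ) hy, Finset.mul_sum]
          refine Finset.sum_congr rfl fun c _ => ?_
          rw [dec_eq]
          simp only [z]
          split_ifs
          · push_cast; ring
          · simp
      _ = ∑ c, S.brauer c y * ((if b.1 = c then 1 else 0 : ℤ) : ℂ) := by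
          rw [Finset.sum_comm]
          refine Finset.sum_congr rfl fun c _ => ?_
          rw [← Finset.mul_sum, ← Int.cast_sum, ← Finset.sum_filter, hz₀ b c]
      _ = _ := by simp
  have hinner : ∀ v : IrrCharacter G → ℤ, ((∑ χ, w χ * v χ : ℤ) : ℂ) =
      classInner (∑ χ : IrrCharacter G, (w χ : ℂ) • (χ : G → ℂ))
        (∑ χ : IrrCharacter G, (v χ : ℂ) • (χ : G → ℂ)) := fun v => by
    rw [Char.classInner_sum_right]
    push_cast
    refine Finset.sum_congr rfl fun χ _ => ?_
    rw [Char.classInner_smul_right, Char.classInner_sum_smul_irr, map_intCast]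
    ring
  have hident : ∀ v : IrrCharacter G → ℤ, (∀ χ, v χ ≠ 0 → χ ∈ principalBlock M G) →
      ∑ χ, w χ * v χ = ∑ b : J, (∑ χ, v χ * (S.decN χ b.1 : ℤ)) * l b := fun v hv => by
    set u : IrrCharacter G → ℤ := fun ξ => ∑ b : J, (∑ χ, v χ * (S.decN χ b.1 : ℤ)) * z b ξ
    have hu : ∑ χ, w χ * u χ = ∑ b : J, (∑ χ, v χ * (S.decN χ b.1 : ℤ)) * l b := by
      simp only [u, l, Finset.mul_sum]
      rw [Finset.sum_comm]
      exact Finset.sum_congr rfl fun b _ => Finset.sum_congr rfl fun ξ _ => by ring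
    rw [← hu]
    refine Int.cast_injective (α := ℂ) ?_
    rw [hinner, hinner, classInner, classInner]
    congr 1
    refine Finset.sum_congr rfl fun y _ => ?_
    by_cases hy : IsPRegular 2 y
    swap
    · simp only [Finset.sum_apply, Pi.smul_apply, smul_eq_mul, h0 y hy, zero_mul]
    congr 2
    simp only [Finset.sum_apply, Pi.smul_apply, smul_eq_mul, u, Int.cast_sum, Int.cast_mul,
      Finset.sum_mul, Int.cast_natCast]
    have hval : ∀ χ : IrrCharacter G, (v χ : ℂ) * (χ : G → ℂ) y =
        ∑ b : J, (v χ : ℂ) * (S.decN χ b.1 : ℂ) * S.brauer b.1 y := fun χ => by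
      by_cases hχ : v χ = 0
      · simp [hχ]
      rw [value_eq S hM (irr_classFunction χ) hy, Finset.mul_sum,
        ← Finset.sum_subset (Finset.subset_univ
          (Finset.univ.filter fun c : Fin S.r => S.InB (principalBlock M G) c)) fun c _ hc => ?_]
      · rw [Finset.sum_subtype _ (p := fun c => S.InB (principalBlock M G) c) (by simp)]
        exact Finset.sum_congr rfl fun b _ => by rw [dec_eq]; ring
      · have : S.decN χ c = 0 := Nat.eq_zero_of_not_pos fun hp =>
          hc (Finset.mem_filter.mpr ⟨Finset.mem_univ _, χ, hv χ hχ, hp⟩)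
        rw [dec_eq, this]; simp
    rw [Finset.sum_congr rfl fun χ _ => hval χ, Finset.sum_comm]
    symm
    rw [Finset.sum_comm]
    refine Finset.sum_congr rfl fun b _ => ?_
    rw [Finset.sum_comm]
    refine Finset.sum_congr rfl fun χ _ => ?_
    rw [← hφ b y hy, Finset.mul_sum]
    exact Finset.sum_congr rfl fun ξ _ => by ring
  let C : J → J → ℤ := fun i j => ∑ χ, (S.decN χ i.1 : ℤ) * (S.decN χ j.1 : ℤ)
  have hsupp : ∀ (b : J) (χ : IrrCharacter G), (S.decN χ b.1 : ℤ) ≠ 0 →
      χ ∈ principalBlock M G := fun b χ h => by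
    by_contra hχ
    exact h (by rw [decN_eq_zero S hB b.2 hχ]; rfl)
  have hn : ∀ c : J, ∑ χ, w χ * (S.decN χ c.1 : ℤ) = ∑ b : J, C c b * l b := fun c =>
    hident _ (hsupp c)
  have hsq : ∑ χ, w χ ^ 2 = ∑ i : J, ∑ j : J, l i * l j * C i j := by
    rw [show ∑ χ, w χ ^ 2 = ∑ χ, w χ * w χ from Finset.sum_congr rfl fun χ _ => sq _,
      hident w hw]
    refine Finset.sum_congr rfl fun i _ => ?_
    rw [hn, Finset.sum_mul]
    exact Finset.sum_congr rfl fun j _ => by ring
  rw [hsq]
  refine even_quadratic C (fun i j => Finset.sum_congr rfl fun χ _ => mul_comm _ _) (fun i => ?_) l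
  have h := even_sum_sq_decN hM hexp S hB i.2
    (fun χ hχ => not_pow_dvd_degree_principal hM hpG hχ)
  have e : C i i = ((∑ χ : IrrCharacter G with χ ∈ principalBlock M G, S.decN χ i.1 ^ 2 : ℕ) : ℤ) := by
    rw [Nat.cast_sum, Finset.sum_filter]
    refine Finset.sum_congr rfl fun χ _ => ?_
    split_ifs with hχ
    · push_cast; ring
    · rw [decN_eq_zero S hB i.2 hχ]; simp
  rw [e]
  exact (Int.even_coe_nat _).mpr h

end CfsgLib.EightSeven
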