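import Cfsg.Agent.Lib.Blocks.Watanabe.Main
import Cfsg.Agent.Lib.Blocks.FreeQuotient.HomocyclicBrauer
import Cfsg.Agent.Lib.Blocks.InertiaNine.Local
import Cfsg.Agent.Lib.Blocks.CentralQuotientBlock

/-!
# A part of an abelian Sylow subgroup centralized by its normalizer

If the normalizer acts regularly outside the centralized part, the principal block has as many
characters as that part has elements times the number for a quotient with fixed point free action.
-/

set_option autoImplicit false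
set_option linter.unusedSectionVars false
set_option linter.style.haveILetI false

namespace CfsgLib.EightSeven

open Cfsg CfsgLib.Blocks CfsgLib.Blocks.FreeQuot CfsgLib.Blocks.FreeQuot.Homocyclic
open CfsgLib.Blocks.Watanabe
open scoped CfsgLib.Char

universe u

variable {M : Ideal AlgInt} [M.IsPrime]

/-- The normalizer fixes `Z` and acts regularly outside it. -/
def IsFixedPart {G : Type*} [Group G] (P : Subgroup G) (Z : Subgroup G) : Prop :=
  Z ≤ P ∧ (∀ y ∈ Subgroup.normalizer (P : Set G), ∀ z ∈ Z, y * z * y⁻¹ = z) ∧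
    ∀ z ∈ P, z ∉ Z → ∀ y ∈ Subgroup.normalizer (P : Set G), y * z * y⁻¹ = z →
      y ∈ Subgroup.centralizer (P : Set G)

/-- The inertial index. -/
noncomputable def inertia {G : Type*} [Group G] (P : Subgroup G) : ℕ :=
  (Subgroup.centralizer (P : Set G)).relIndex (Subgroup.normalizer (P : Set G))

theorem centralizer_le_normalizer {G : Type*} [Group G] (P : Subgroup G) :
    Subgroup.centralizer (P : Set G) ≤ Subgroup.normalizer (P : Set G) := fun c hc => by
  rw [Subgroup.mem_normalizer_iff]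
  intro x
  constructor
  · intro hx
    rwa [← Subgroup.mem_centralizer_iff.mp hc x hx, mul_inv_cancel_right]
  · intro hx
    have h := Subgroup.mem_centralizer_iff.mp hc _ hx
    have e : c * x * c⁻¹ = x := by
      apply mul_left_cancel (a := c)
      rw [← h]; group
    rwa [e] at hx

section

variable {G : Type u} [Group G] [Fintype G] (P : Sylow 2 G)

/-- The inertial index of an abelian Sylow subgroup is odd. -/
theorem odd_inertia (hab : ∀ x ∈ (P : Subgroup G), ∀ y ∈ (P : Subgroup G), x * y = y * x) :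
    Odd (inertia (P : Subgroup G)) := by
  haveI : Fact (Nat.Prime 2) := ⟨Nat.prime_two⟩
  have hPC : (P : Subgroup G) ≤ Subgroup.centralizer ((P : Subgroup G) : Set G) :=
    fun v hv y hy => hab y hy v hv
  refine Nat.not_even_iff_odd.mp fun h => P.not_dvd_index ?_
  exact (even_iff_two_dvd.mp h).trans ((Subgroup.relIndex_dvd_of_le_left _ hPC).trans
    (Subgroup.relIndex_dvd_index_of_le Subgroup.le_normalizer))

theorem counts_fixed (hM : IsPModular 2 M)
    (hab : ∀ x ∈ (P : Subgroup G), ∀ y ∈ (P : Subgroup G), x * y = y * x) {w : G}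
    (hw : w ∈ (P : Subgroup G))
    (hfix : ∀ y ∈ Subgroup.normalizer ((P : Subgroup G) : Set G), y * w * y⁻¹ = w) :
    blockRank 2 (principalBlock M G) = blockRank 2 (principalBlock M (cz w)) ∧
      Nat.card (principalBlock M G) = Nat.card (principalBlock M (cz w)) := by
  haveI : Fact (Nat.Prime 2) := ⟨Nat.prime_two⟩
  have h := odd_inertia P hab
  have hT := blockT_principal (M := M) P
  have := counts_eq hM (max_principal hM P) hab (by
    rw [hT]; exact fun hd => Nat.not_even_iff_odd.mpr h (even_iff_two_dvd.mpr hd)) hw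
    (by rw [hT]; exact hfix)
  rwa [bk_principal hM P hw] at this

/-- Away from the fixed part the local rank is one. -/
theorem blockRank_off (hM : IsPModular 2 M)
    (hab : ∀ x ∈ (P : Subgroup G), ∀ y ∈ (P : Subgroup G), x * y = y * x) {Z : Subgroup G}
    (hZ : IsFixedPart (P : Subgroup G) Z) {z : G} (hz : z ∈ (P : Subgroup G)) (hzZ : z ∉ Z) :
    blockRank 2 (principalBlock M (cz z)) = 1 := by
  classical
  haveI : Fact (Nat.Prime 2) := ⟨Nat.prime_two⟩
  have hle : (P : Subgroup G) ≤ cz z := fun a ha b hb => by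
    exact hab b (Subgroup.zpowers_le.mpr hz hb) a ha
  refine InertiaNine.blockRank_principal_of_npc hM
    (Transfer.hasNormalPComplement_of_normalizer_le_centralizer (P.subtype hle) fun y hy => ?_)
    (P.subtype hle)
  have hyN : (y : G) ∈ Subgroup.normalizer ((P : Subgroup G) : Set G) := by
    rw [Subgroup.mem_normalizer_iff]
    intro x
    constructor
    · intro hx
      exact (Subgroup.mem_normalizer_iff.mp hy ⟨x, hle hx⟩).mp hx
    · intro hx
      have hxC : x ∈ cz z := by
        have h2 := mul_mem (mul_mem (inv_mem y.2) (hle hx)) y.2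
        simpa [mul_assoc] using h2
      exact (Subgroup.mem_normalizer_iff.mp hy ⟨x, hxC⟩).mpr hx
  have hc := hZ.2.2 z hz hzZ _ hyN (cz_fix y.2)
  rw [Subgroup.mem_centralizer_iff]
  exact fun x hx => Subtype.ext (Subgroup.mem_centralizer_iff.mp hc x hx)

/-- The count of the principal block. -/
theorem card_principal_fixed (hM : IsPModular 2 M)
    (hab : ∀ x ∈ (P : Subgroup G), ∀ y ∈ (P : Subgroup G), x * y = y * x) {Z : Subgroup G}
    (hZ : IsFixedPart (P : Subgroup G) Z) :
    inertia (P : Subgroup G) * Nat.card (principalBlock M G) + Nat.card Z =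
      Nat.card Z * inertia (P : Subgroup G) * blockRank 2 (principalBlock M G) +
        Nat.card (P : Subgroup G) := by
  classical
  set N := Subgroup.normalizer ((P : Subgroup G) : Set G) with hN
  set C := Subgroup.centralizer ((P : Subgroup G) : Set G) with hC
  have hsum := sum_term hM (max_principal hM P) hab
  rw [blockT_principal P] at hsum
  have hNC : Nat.card N = inertia (P : Subgroup G) * Nat.card C := by
    have h := (C.subgroupOf N).index_mul_card
    rw [Nat.card_congr (Subgroup.subgroupOfEquivOfLe (centralizer_le_normalizer _)).toEquiv] at h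
    exact h.symm
  have hterm : ∀ z : (P : Subgroup G), term 2 M (P : Subgroup G)
      (principalBlock M (Subgroup.centralizer ((P : Subgroup G) : Set G))) z =
      if (z : G) ∈ Z then Nat.card N * blockRank 2 (principalBlock M G) else Nat.card C := fun z => by
    rw [term, blockT_principal P, bk_principal hM P z.2]
    split_ifs with h
    · rw [stabCount_fixed fun y hy => hZ.2.1 y hy _ h,
        ← (counts_fixed P hM hab z.2 fun y hy => hZ.2.1 y hy _ h).1]
    · rw [blockRank_off P hM hab hZ z.2 h, mul_one]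
      refine Nat.card_congr
        { toFun := fun t => ⟨((t : N) : G), hZ.2.2 _ z.2 h _ t.1.2 t.2⟩
          invFun := fun c => ⟨⟨(c : G), centralizer_le_normalizer _ c.2⟩, by
            show (c : G) * (z : G) * (c : G)⁻¹ = z
            rw [← Subgroup.mem_centralizer_iff.mp c.2 z z.2, mul_inv_cancel_right]⟩
          left_inv := fun _ => rfl
          right_inv := fun _ => rfl }
  have hZcard : (Finset.univ.filter fun z : (P : Subgroup G) => (z : G) ∈ Z).card = Nat.card Z := by
    rw [← Fintype.card_subtype, ← Nat.card_eq_fintype_card]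
    exact Nat.card_congr (Subgroup.subgroupOfEquivOfLe hZ.1).toEquiv
  have hsplit := Finset.card_filter_add_card_filter_not (s := (Finset.univ : Finset (P : Subgroup G)))
    (p := fun z => (z : G) ∈ Z)
  rw [hZcard, Finset.card_univ, ← Nat.card_eq_fintype_card] at hsplit
  rw [Finset.sum_congr rfl fun z _ => hterm z, Finset.sum_ite, Finset.sum_const, Finset.sum_const,
    hZcard, smul_eq_mul, smul_eq_mul, hNC] at hsum
  refine Nat.eq_of_mul_eq_mul_left (Nat.card_pos (α := C)) ?_
  rw [← hsplit]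
  linear_combination -hsum

end

/-- The quotient of the centralizer of a fixed element. -/
theorem exists_step {G : Type u} [Group G] [Fintype G] (P : Sylow 2 G) (hM : IsPModular 2 M)
    (hab : ∀ x ∈ (P : Subgroup G), ∀ y ∈ (P : Subgroup G), x * y = y * x) {Z : Subgroup G}
    (hZ : IsFixedPart (P : Subgroup G) Z) {w : G} (hwZ : w ∈ Z) :
    ∃ (G' : Type u) (_ : Group G') (_ : Fintype G') (P' : Sylow 2 G') (Z' : Subgroup G')
      (φ : (P : Subgroup G) →* (P' : Subgroup G')),
      Function.Surjective φ ∧ φ.ker = (Subgroup.zpowers w).subgroupOf (P : Subgroup G) ∧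
      (Z.subgroupOf (P : Subgroup G)).map φ = Z'.subgroupOf (P' : Subgroup G') ∧
      IsFixedPart (P' : Subgroup G') Z' ∧ inertia (P' : Subgroup G') = inertia (P : Subgroup G) ∧
      blockRank 2 (principalBlock M G') = blockRank 2 (principalBlock M G) := by
  classical
  haveI : Fact (Nat.Prime 2) := ⟨Nat.prime_two⟩
  have hw : w ∈ (P : Subgroup G) := hZ.1 hwZ
  have hwN : ∀ y ∈ Subgroup.normalizer ((P : Subgroup G) : Set G), y * w * y⁻¹ = w :=
    fun y hy => hZ.2.1 y hy w hwZ
  set H := cz w with hH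
  let := Fintype.ofFinite H
  have hle : (P : Subgroup G) ≤ H := fun a ha b hb => by
    exact hab b (Subgroup.zpowers_le.mpr hw hb) a ha
  have hNH : Subgroup.normalizer ((P : Subgroup G) : Set G) ≤ H := fun y hy => by
    rw [hH, cz_eq, Subgroup.mem_centralizer_singleton_iff]
    exact mul_inv_eq_iff_eq_mul.mp (hwN y hy)
  set K := (Subgroup.zpowers w).subgroupOf H with hK
  have hKc : ∀ k ∈ K, ∀ g : H, Commute k g := fun k hk g =>
    Subtype.ext (g.2 (k : G) hk)
  haveI hKn : K.Normal := ⟨fun k hk g => by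
    rwa [← (hKc k hk g).eq, mul_inv_cancel_right]⟩
  let := Fintype.ofFinite (H ⧸ K)
  set f : H →* H ⧸ K := QuotientGroup.mk' K with hf
  have hfs : Function.Surjective f := QuotientGroup.mk'_surjective _
  have hmemK : ∀ {h : H}, f h = 1 ↔ (h : G) ∈ Subgroup.zpowers w := fun {h} => by
    rw [hf, QuotientGroup.mk'_apply, QuotientGroup.eq_one_iff]; rfl
  have hker : IsPGroup 2 f.ker := by
    rw [hf, QuotientGroup.ker_mk']
    exact (P.2.to_le (Subgroup.zpowers_le.mpr hw)).of_equiv
      (Subgroup.subgroupOfEquivOfLe (Subgroup.zpowers_le.mpr (hle hw))).symm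
  have hc : ∀ k ∈ f.ker, ∀ g : H, Commute k g := fun k hk g =>
    hKc k (by rwa [hf, QuotientGroup.ker_mk'] at hk) g
  set P' : Sylow 2 (H ⧸ K) := (P.subtype hle).mapSurjective hfs with hP'
  have hmemP' : ∀ {x : H ⧸ K}, x ∈ (P' : Subgroup (H ⧸ K)) ↔
      ∃ v : H, (v : G) ∈ (P : Subgroup G) ∧ f v = x := fun {x} => by
    rw [hP', Sylow.coe_mapSurjective, Subgroup.mem_map]
    exact Iff.rfl
  have hpre : ∀ {v : H}, f v ∈ (P' : Subgroup (H ⧸ K)) → (v : G) ∈ (P : Subgroup G) := by
    intro v hv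
    obtain ⟨u, hu, he⟩ := hmemP'.mp hv
    have h : f (u⁻¹ * v) = 1 := by rw [map_mul, map_inv, he, inv_mul_cancel]
    have h2 := mul_mem hu (Subgroup.zpowers_le.mpr hw (hmemK.mp h))
    simpa using h2
  have hnorm : ∀ {y : H}, f y ∈ Subgroup.normalizer ((P' : Subgroup (H ⧸ K)) : Set (H ⧸ K)) ↔
      (y : G) ∈ Subgroup.normalizer ((P : Subgroup G) : Set G) := by
    intro y
    constructor
    · intro hy
      rw [Subgroup.mem_normalizer_iff]
      intro x
      constructor
      · intro hx
        refine hpre (v := y * ⟨x, hle hx⟩ * y⁻¹) ?_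
        rw [map_mul, map_mul, map_inv]
        exact (Subgroup.mem_normalizer_iff.mp hy _).mp (hmemP'.mpr ⟨⟨x, hle hx⟩, hx, rfl⟩)
      · intro hx
        have hxH : x ∈ H := by
          have h2 := mul_mem (mul_mem (inv_mem y.2) (hle hx)) y.2
          simpa [mul_assoc] using h2
        refine hpre (v := ⟨x, hxH⟩) ((Subgroup.mem_normalizer_iff.mp hy _).mpr ?_)
        rw [← map_inv, ← map_mul, ← map_mul]
        exact hmemP'.mpr ⟨_, hx, rfl⟩
    · intro hy
      rw [Subgroup.mem_normalizer_iff]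
      intro x
      obtain ⟨v, rfl⟩ := hfs x
      rw [← map_inv, ← map_mul, ← map_mul]
      exact ⟨fun h => hmemP'.mpr ⟨_, (Subgroup.mem_normalizer_iff.mp hy _).mp (hpre h), rfl⟩,
        fun h => hmemP'.mpr ⟨v, (Subgroup.mem_normalizer_iff.mp hy _).mpr (hpre h), rfl⟩⟩
  have hodd := odd_inertia P hab
  -- fixing modulo `w` is fixing
  have hlift : ∀ {y : H}, (y : G) ∈ Subgroup.normalizer ((P : Subgroup G) : Set G) → ∀ {z : H},
      (z : G) ∈ (P : Subgroup G) → f y * f z * (f y)⁻¹ = f z →
      (y : G) * (z : G) * (y : G)⁻¹ = z := by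
    intro y hy z hz he
    set k : G := (z : G)⁻¹ * ((y : G) * (z : G) * (y : G)⁻¹) with hkd
    have hk : k ∈ Subgroup.zpowers w := by
      have h : f (z⁻¹ * (y * z * y⁻¹)) = 1 := by
        rw [map_mul, map_inv, map_mul, map_mul, map_inv, he, inv_mul_cancel]
      exact hmemK.mp h
    obtain ⟨i, hi⟩ := Subgroup.mem_zpowers_iff.mp hk
    have hyk : (y : G) * k * (y : G)⁻¹ = k := by rw [← hi, ← conj_zpow, hwN _ hy]
    have hn : ∀ n : ℕ, (y : G) ^ n * (z : G) * ((y : G) ^ n)⁻¹ = z * k ^ n := fun n => by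
      induction n with
      | zero => simp
      | succ n ih =>
        rw [pow_succ' (y : G) n, mul_inv_rev,
          show (y : G) * (y : G) ^ n * (z : G) * (((y : G) ^ n)⁻¹ * (y : G)⁻¹) =
            (y : G) * ((y : G) ^ n * (z : G) * ((y : G) ^ n)⁻¹) * (y : G)⁻¹ by group, ih,
          show (y : G) * ((z : G) * k ^ n) * (y : G)⁻¹ =
            ((y : G) * (z : G) * (y : G)⁻¹) * ((y : G) * k ^ n * (y : G)⁻¹) by group,
          show (y : G) * (z : G) * (y : G)⁻¹ = z * k by rw [hkd]; group, ← conj_pow, hyk,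
          mul_assoc, ← pow_succ']
    set C₀ := (Subgroup.centralizer ((P : Subgroup G) : Set G)).subgroupOf
      (Subgroup.normalizer ((P : Subgroup G) : Set G)) with hC₀
    haveI : C₀.Normal := ⟨fun a ha g => by
      rw [hC₀, Subgroup.mem_subgroupOf, Subgroup.mem_centralizer_iff] at ha ⊢
      intro x hx
      have h1 : (g : G)⁻¹ * x * (g : G) ∈ (P : Subgroup G) := by
        have := (Subgroup.mem_normalizer_iff.mp (inv_mem g.2) x).mp hx
        simpa using this
      have h2 := congrArg (fun t => (g : G) * t * (g : G)⁻¹) (ha _ h1)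
      simp only [Subgroup.coe_mul, Subgroup.coe_inv]
      simpa [mul_assoc] using h2⟩
    have hq := C₀.pow_index_mem ⟨_, hy⟩
    rw [hC₀, Subgroup.mem_subgroupOf, Subgroup.coe_pow, Subgroup.mem_centralizer_iff] at hq
    have h1 : k ^ inertia (P : Subgroup G) = 1 := by
      have h := hn (inertia (P : Subgroup G))
      have hq' : ∀ a ∈ (P : Subgroup G),
          a * (y : G) ^ inertia (P : Subgroup G) = (y : G) ^ inertia (P : Subgroup G) * a := hq
      rw [← hq' _ hz, mul_inv_cancel_right] at h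
      exact mul_eq_left.mp h.symm
    obtain ⟨j, hj⟩ := IsPGroup.iff_orderOf.mp P.2 ⟨k, Subgroup.zpowers_le.mpr hw hk⟩
    rw [Subgroup.orderOf_mk] at hj
    have h2 : orderOf k ∣ inertia (P : Subgroup G) := orderOf_dvd_of_pow_eq_one h1
    have h3 : orderOf k = 1 := by
      rw [hj] at h2 ⊢
      rcases j with _ | j
      · rfl
      · exact absurd (even_iff_two_dvd.mpr ((dvd_pow_self 2 j.succ_ne_zero).trans h2))
          (Nat.not_even_iff_odd.mpr hodd)
    rw [orderOf_eq_one_iff, hkd, inv_mul_eq_one] at h3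
    exact h3.symm
  have hcent : ∀ {y : H}, f y ∈ Subgroup.centralizer ((P' : Subgroup (H ⧸ K)) : Set (H ⧸ K)) ↔
      (y : G) ∈ Subgroup.centralizer ((P : Subgroup G) : Set G) := by
    intro y
    constructor
    · intro hy
      have hyN := hnorm.mp (centralizer_le_normalizer _ hy)
      rw [Subgroup.mem_centralizer_iff]
      intro x hx
      have h := hlift hyN (z := ⟨x, hle hx⟩) hx (by
        rw [← Subgroup.mem_centralizer_iff.mp hy _ (hmemP'.mpr ⟨⟨x, hle hx⟩, hx, rfl⟩),
          mul_inv_cancel_right])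
      exact (mul_inv_eq_iff_eq_mul.mp h).symm
    · intro hy
      rw [Subgroup.mem_centralizer_iff]
      intro x hx
      obtain ⟨v, hv, rfl⟩ := hmemP'.mp hx
      rw [← map_mul, ← map_mul]
      exact congrArg f (Subtype.ext (Subgroup.mem_centralizer_iff.mp hy _ hv))
  set Z' : Subgroup (H ⧸ K) := (Z.subgroupOf H).map f with hZ'
  let φ : (P : Subgroup G) →* (P' : Subgroup (H ⧸ K)) :=
    (f.comp (Subgroup.inclusion hle)).codRestrict _ fun v =>
      hmemP'.mpr ⟨⟨(v : G), hle v.2⟩, v.2, rfl⟩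
  have hφ : Function.Surjective φ := fun x => by
    obtain ⟨v, hv, he⟩ := hmemP'.mp x.2
    exact ⟨⟨(v : G), hv⟩, Subtype.ext he⟩
  refine ⟨H ⧸ K, inferInstance, inferInstance, P', Z', φ, hφ, ?_, ?_, ⟨?_, ?_, ?_⟩, ?_, ?_⟩
  · ext v
    rw [MonoidHom.mem_ker, Subtype.ext_iff, Subgroup.mem_subgroupOf]
    exact hmemK (h := ⟨(v : G), hle v.2⟩)
  · ext x
    rw [Subgroup.mem_map, Subgroup.mem_subgroupOf, hZ', Subgroup.mem_map]
    constructor
    · rintro ⟨v, hv, rfl⟩
      exact ⟨⟨(v : G), hle v.2⟩, hv, rfl⟩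
    · rintro ⟨v, hv, he⟩
      exact ⟨⟨(v : G), hZ.1 hv⟩, hv, Subtype.ext he⟩
  · rintro _ ⟨v, hv, rfl⟩
    exact hmemP'.mpr ⟨v, hZ.1 hv, rfl⟩
  · rintro x hx _ ⟨v, hv, rfl⟩
    obtain ⟨y, rfl⟩ := hfs x
    rw [← map_inv, ← map_mul, ← map_mul]
    exact congrArg f (Subtype.ext (hZ.2.1 _ (hnorm.mp hx) _ hv))
  · intro x hx hxZ y' hy' he
    obtain ⟨v, hv, rfl⟩ := hmemP'.mp hx
    obtain ⟨y, rfl⟩ := hfs y'
    exact hcent.mpr (hZ.2.2 _ hv (fun h => hxZ ⟨v, h, rfl⟩) _ (hnorm.mp hy')
      (hlift (hnorm.mp hy') hv he))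
  · rw [inertia, inertia,
      ← Subgroup.map_comap_eq_self_of_surjective hfs
        (Subgroup.normalizer ((P' : Subgroup (H ⧸ K)) : Set (H ⧸ K))), ← Subgroup.relIndex_comap,
      show (Subgroup.centralizer ((P' : Subgroup (H ⧸ K)) : Set (H ⧸ K))).comap f =
        (Subgroup.centralizer ((P : Subgroup G) : Set G)).subgroupOf H from
        Subgroup.ext fun y => hcent,
      show (Subgroup.normalizer ((P' : Subgroup (H ⧸ K)) : Set (H ⧸ K))).comap f =
        (Subgroup.normalizer ((P : Subgroup G) : Set G)).subgroupOf H from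
        Subgroup.ext fun y => hnorm, Subgroup.relIndex_subgroupOf hNH]
  · rw [(counts_fixed P hM hab hw hwN).1,
      CentralQuot.blockRank_pre f hfs hM hker hc isPBlock_principalBlock]
    congr 1
    refine (IsPBlock.eq_of_mem_of_mem (CentralQuot.isPBlock_pre f hfs hM hker hc
      isPBlock_principalBlock) isPBlock_principalBlock (χ := trivIrr (H ⧸ K)) ?_ ?_).symm
    · show inflate f hfs (trivIrr (H ⧸ K)) ∈ principalBlock M H
      rw [show inflate f hfs (trivIrr (H ⧸ K)) = trivIrr H from rfl, principalBlock_eq]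
      exact mem_blockOf_self _
    · rw [principalBlock_eq]
      exact mem_blockOf_self _

/-- **The reduction to fixed point free action.** -/
theorem exists_reduced (hM : IsPModular 2 M) :
    ∀ (n : ℕ) (G : Type u) [Group G] [Fintype G] (P : Sylow 2 G)
      (_ : ∀ x ∈ (P : Subgroup G), ∀ y ∈ (P : Subgroup G), x * y = y * x) (Z : Subgroup G)
      (_ : IsFixedPart (P : Subgroup G) Z) (_ : Nat.card Z = n),
    ∃ (G' : Type u) (_ : Group G') (_ : Fintype G') (P' : Sylow 2 G')
      (φ : (P : Subgroup G) →* (P' : Subgroup G')),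
      Function.Surjective φ ∧ φ.ker = Z.subgroupOf (P : Subgroup G) ∧
      IsFixedPart (P' : Subgroup G') ⊥ ∧ inertia (P' : Subgroup G') = inertia (P : Subgroup G) ∧
      blockRank 2 (principalBlock M G') = blockRank 2 (principalBlock M G) ∧
      Nat.card (principalBlock M G) = Nat.card Z * Nat.card (principalBlock M G') := by
  intro n
  induction n using Nat.strong_induction_on with
  | _ n ih =>
    intro G _ _ P hab Z hZ hn
    by_cases hbot : Z = ⊥
    · subst hbot
      refine ⟨G, inferInstance, inferInstance, P, MonoidHom.id _, Function.surjective_id, ?_, hZ,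
        rfl, rfl, by rw [Subgroup.card_bot, one_mul]⟩
      ext v
      simp [Subgroup.mem_subgroupOf]
    obtain ⟨⟨w, hwZ⟩, hw1'⟩ : ∃ w : Z, w ≠ 1 := Subgroup.ne_bot_iff_exists_ne_one.mp hbot
    have hw1 : w ≠ 1 := fun e => hw1' (Subtype.ext e)
    obtain ⟨G₁, _, _, P₁, Z₁, φ, hφ, hker, hmap, hZ₁, he₁, hl₁⟩ := exists_step P hM hab hZ hwZ
    have hab₁ : ∀ x ∈ (P₁ : Subgroup G₁), ∀ y ∈ (P₁ : Subgroup G₁), x * y = y * x := by
      intro x hx y hy
      obtain ⟨a, ha⟩ := hφ ⟨x, hx⟩
      obtain ⟨b, hb⟩ := hφ ⟨y, hy⟩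
      have h := congrArg Subtype.val (congrArg φ
        (Subtype.ext (hab _ a.2 _ b.2) : a * b = b * a))
      simpa [ha, hb] using h
    have hlt : Nat.card Z₁ < n := by
      have h1 := Nat.card_congr (Subgroup.subgroupOfEquivOfLe hZ₁.1).toEquiv
      rw [← hmap] at h1
      rw [← h1, ← hn, ← Nat.card_congr (Subgroup.subgroupOfEquivOfLe hZ.1).toEquiv]
      let g : Z.subgroupOf (P : Subgroup G) → (Z.subgroupOf (P : Subgroup G)).map φ := fun v =>
        ⟨φ v, Subgroup.mem_map_of_mem φ v.2⟩
      have hgs : Function.Surjective g := fun ⟨_, v, hv, hx⟩ => ⟨⟨v, hv⟩, Subtype.ext hx⟩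
      refine lt_of_le_of_ne (Nat.card_le_card_of_surjective g hgs) fun e => hw1 ?_
      have hinj := ((Nat.bijective_iff_surjective_and_card g).mpr ⟨hgs, e.symm⟩).1
      have hwk : (⟨w, hZ.1 hwZ⟩ : (P : Subgroup G)) ∈ φ.ker := by
        rw [hker]; exact Subgroup.mem_zpowers w
      have h2 := hinj (a₁ := ⟨⟨w, hZ.1 hwZ⟩, hwZ⟩) (a₂ := 1) (Subtype.ext (by
        show φ ⟨w, hZ.1 hwZ⟩ = φ 1
        rw [map_one]; exact hwk))
      exact congrArg (fun v : Z.subgroupOf (P : Subgroup G) => ((v : (P : Subgroup G)) : G)) h2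
    obtain ⟨G₂, _, _, P₂, ψ, hψ, hker₂, hZ₂, he₂, hl₂, -⟩ := ih _ hlt G₁ P₁ hab₁ Z₁ hZ₁ rfl
    have hkerc : (ψ.comp φ).ker = Z.subgroupOf (P : Subgroup G) := by
      rw [← MonoidHom.comap_ker, hker₂, ← hmap, Subgroup.comap_map_eq, hker, sup_eq_left]
      intro v hv
      exact Subgroup.zpowers_le.mpr hwZ hv
    refine ⟨G₂, inferInstance, inferInstance, P₂, ψ.comp φ, hψ.comp hφ, hkerc, hZ₂,
      he₂.trans he₁, hl₂.trans hl₁, ?_⟩
    have hab₂ : ∀ x ∈ (P₂ : Subgroup G₂), ∀ y ∈ (P₂ : Subgroup G₂), x * y = y * x := by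
      intro x hx y hy
      obtain ⟨a, ha⟩ := hψ.comp hφ ⟨x, hx⟩
      obtain ⟨b, hb⟩ := hψ.comp hφ ⟨y, hy⟩
      have h := congrArg Subtype.val (congrArg (ψ.comp φ)
        (Subtype.ext (hab _ a.2 _ b.2) : a * b = b * a))
      simpa [Function.comp_apply] using (by rwa [map_mul, map_mul,
        show (ψ.comp φ) a = ⟨x, hx⟩ from ha, show (ψ.comp φ) b = ⟨y, hy⟩ from hb] at h)
    have hs : Function.Surjective (ψ.comp φ) := by
      rw [MonoidHom.coe_comp]; exact hψ.comp hφ
    have hcard : Nat.card Z * Nat.card (P₂ : Subgroup G₂) = Nat.card (P : Subgroup G) := by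
      rw [← Subgroup.index_mul_card (ψ.comp φ).ker, Subgroup.index_ker,
        MonoidHom.range_eq_top.mpr hs, Subgroup.card_top, hkerc,
        Nat.card_congr (Subgroup.subgroupOfEquivOfLe hZ.1).toEquiv, mul_comm]
    have h1 := card_principal_fixed P hM hab hZ
    have h2 := card_principal_fixed P₂ hM hab₂ hZ₂
    rw [Subgroup.card_bot, one_mul, he₂.trans he₁, hl₂.trans hl₁] at h2
    refine Nat.eq_of_mul_eq_mul_left (odd_inertia P hab).pos ?_
    rw [← hcard] at h1
    have h3 : inertia (P : Subgroup G) * Nat.card (principalBlock M G) + Nat.card Z =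
        inertia (P : Subgroup G) * (Nat.card Z * Nat.card (principalBlock M G₂)) + Nat.card Z := by
      linear_combination h1 - Nat.card Z * h2
    omega

end CfsgLib.EightSeven
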