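import Cfsg.Agent.Lib.EightSeven.EvenNorm
import Cfsg.Agent.Lib.Blocks.AbelianFrobeniusThree

/-!
# Frobenius action of order five on an elementary abelian Sylow subgroup of order sixteen

Virtual projective characters of even norm force every constant to be odd, so that eight characters
remain.
-/

set_option autoImplicit false
set_option linter.unusedSectionVars false
set_option linter.style.haveILetI false

namespace CfsgLib.EightSeven

open Cfsg CfsgLib.Blocks CfsgLib.Blocks.AbelianFrob
open scoped CfsgLib.Char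

universe u

variable {M : Ideal AlgInt} {G : Type u} [Group G] [Fintype G] (P : Sylow 2 G)

/-- With inertial index five on sixteen elements there are eight characters. -/
theorem card_principal_five (hM : IsPModular 2 M) (hab : IsMulCommutative (P : Subgroup G))
    (hfrob : IsFrob P) (hexp : ∀ x ∈ (P : Subgroup G), x * x = 1) (h16 : Nat.card P = 16)
    (h5 : Nat.card (autG P) = 5) : Nat.card (principalBlock M G) = 8 := by
  classical
  haveI := isPrime_of_isPModular hM
  have hmul := card_orb_mul P hab hfrob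
  rw [h5, h16] at hmul
  have ht : Nat.card (Orb P) = 3 := by omega
  have h2 : 2 ≤ Nat.card (Orb P) := by omega
  obtain ⟨D⟩ := exists_data (M := M) P hM hab hfrob h2
  haveI := Fintype.ofFinite (Orb P)
  haveI := Fintype.ofFinite (P : Subgroup G)
  have hA : ∀ a b : (P : Subgroup G), a * b = b * a := fun a b => mul_comm' (a := a) (b := b)
  haveI := finite_hom hA
  haveI := Fintype.ofFinite ((P : Subgroup G) →* ℂˣ)
  have hpG : 2 ∣ Nat.card G := (show 2 ∣ Nat.card P by rw [h16]; norm_num).trans
    (P : Subgroup G).card_subgroup_dvd_card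
  have hexpG : ∀ g : G, (∃ j : ℕ, orderOf g = 2 ^ j) → g * g = 1 := by
    intro g hg
    obtain ⟨c, hc⟩ := exists_conj_mem_of_pow P hg
    have h := hexp _ hc
    calc g * g = c⁻¹ * (c * g * c⁻¹ * (c * g * c⁻¹)) * c := by group
      _ = 1 := by rw [h]; group
  have hsing : ∀ g : G, ¬ IsPRegular 2 g → ∃ y : (P : Subgroup G), y ≠ 1 ∧
      ∀ χ ∈ principalBlock M G, (χ : G → ℂ) g = (χ : G → ℂ) y := by
    intro g hg
    obtain ⟨x, hx, -⟩ := exists_isPPart Nat.prime_two g
    obtain ⟨u, hgu, hcom, hxo, hu⟩ := id hx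
    obtain ⟨c, hc⟩ := exists_conj_mem_of_pow P hxo
    have hc1 : c * x * c⁻¹ ≠ 1 := by
      intro e
      have : x = 1 := conj_eq_one_iff.mp e
      rw [this, one_mul] at hgu
      exact hg (hgu ▸ hu)
    refine ⟨⟨c * x * c⁻¹, hc⟩, fun e => hc1 (congrArg Subtype.val e), fun χ hχ => ?_⟩
    rw [← value_section P hM hab hfrob hχ (IsPPart.conj hx c) hc hc1]
    exact (irr_classFunction χ g c).symm
  have hone := one_mem_X hM hab hfrob D h2 (χ := trivIrr G) rfl
  have hnY : trivIrr G ∉ Finset.univ.image D.e := fun h => hone.1.2 (by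
    obtain ⟨o, -, ho⟩ := Finset.mem_image.mp h
    exact ⟨o, ho⟩)
  have hsq := sum_sq hM hab hfrob D h2
  rw [h5, ht] at hsq
  norm_num at hsq
  -- the constants are odd
  have hodd : ∀ χ ∈ D.X, Odd (D.a h2 χ) := by
    intro χ₀ hχ₀
    by_cases he : χ₀ = trivIrr G
    · rw [he, hone.2]; exact odd_one
    set a := D.a h2 χ₀
    set w : IrrCharacter G → ℤ := fun χ =>
      (if χ = χ₀ then 1 else 0) + (if χ = trivIrr G then -a else 0) with hw
    have h := even_norm hM hpG hexpG w (fun χ hχ => ?_) (fun g hg => ?_)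
    · have e : ∑ χ, w χ ^ 2 = 1 + a ^ 2 := by
        rw [Finset.sum_congr rfl (g := fun χ =>
          (if χ = χ₀ then 1 else 0) + (if χ = trivIrr G then a ^ 2 else 0)) fun χ _ => ?_,
          Finset.sum_add_distrib, Finset.sum_ite_eq', Finset.sum_ite_eq']
        · simp
        · simp only [w]
          split_ifs with h1 h2'
          · exact absurd (h1.symm.trans h2') he
          all_goals ring
      rw [e, Int.even_add, Int.even_pow' two_ne_zero] at h
      exact Int.not_even_iff_odd.mp fun h' => Int.not_even_one (h.mpr h')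
    · simp only [w] at hχ
      by_cases h1 : χ = χ₀
      · exact h1 ▸ hχ₀.1
      · by_cases h2' : χ = trivIrr G
        · exact h2' ▸ hone.1.1
        · simp [h1, h2'] at hχ
    · obtain ⟨y, hy, hv⟩ := hsing g hg
      simp only [w, Int.cast_add, add_mul, Finset.sum_add_distrib, apply_ite (Int.cast (R := ℂ)),
        Int.cast_one, Int.cast_zero, ite_mul, one_mul, zero_mul, Finset.sum_ite_eq', Finset.mem_univ,
        if_true]
      rw [hv _ hχ₀.1, value_X hM hab hfrob D h2 hχ₀ hy,
        show (trivIrr G : G → ℂ) g = 1 from rfl]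
      push_cast
      ring
  -- the sum of the coherent characters
  have hsumY : ∀ y : (P : Subgroup G), y ≠ 1 →
      ∑ o : Orb P, (D.e o : G → ℂ) y = ((3 * D.k - D.δ : ℤ) : ℂ) := by
    intro y hy
    have hc : ∀ ψ ∈ Finset.univ.erase (1 : (P : Subgroup G) →* ℂˣ),
        ∑ o : Orb P, (coeff P (D.e o) ψ : ℂ) = ((3 * D.k - D.δ : ℤ) : ℂ) := by
      intro ψ hψ
      have hψ' := Finset.ne_of_mem_erase hψ
      rw [← Int.cast_sum]
      congr 1
      rw [Finset.sum_congr rfl (g := fun o => D.k -
        if o = Quotient.mk (orbSetoid P) ⟨ψ, hψ'⟩ then D.δ else 0) fun o _ => ?_,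
        Finset.sum_sub_distrib, Finset.sum_ite_eq', if_pos (Finset.mem_univ _), Finset.sum_const,
        Finset.card_univ, ← Nat.card_eq_fintype_card, ht, nsmul_eq_mul]
      · norm_num
      · rcases D.onY ⟨ψ, hψ'⟩ o with ⟨f, g⟩ | ⟨f, g⟩
        · rw [if_pos g]; exact f
        · rw [if_neg g, sub_zero]; exact f
    rw [Finset.sum_congr rfl fun o _ => value_dual hM hab hfrob D h2 (D.e o) hy,
      Finset.sum_neg_distrib, Finset.sum_comm,
      Finset.sum_congr rfl (g := fun ψ : (P : Subgroup G) →* ℂˣ =>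
        (∑ o : Orb P, (coeff P (D.e o) ψ : ℂ)) * ((ψ y : ℂˣ) : ℂ)) fun ψ _ => (Finset.sum_mul _ _ _).symm,
      ← Finset.sum_erase (s := Finset.univ) (a := (1 : (P : Subgroup G) →* ℂˣ))
        (by simp [coeff_one]),
      Finset.sum_congr rfl fun ψ hψ => by rw [hc ψ hψ],
      ← Finset.mul_sum, Finset.sum_erase_eq_sub (Finset.mem_univ _), sum_hom_apply hA, if_neg hy]
    simp
  -- `k` is even
  have hkodd : Odd (3 * D.k - D.δ) := by
    set c := 3 * D.k - D.δ with hcdef
    set w : IrrCharacter G → ℤ := fun χ =>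
      (if χ ∈ Finset.univ.image D.e then 1 else 0) + (if χ = trivIrr G then -c else 0) with hw
    have h := even_norm hM hpG hexpG w (fun χ hχ => ?_) (fun g hg => ?_)
    · have e : ∑ χ, w χ ^ 2 = 3 + c ^ 2 := by
        rw [Finset.sum_congr rfl (g := fun χ =>
          (if χ ∈ Finset.univ.image D.e then 1 else 0) + (if χ = trivIrr G then c ^ 2 else 0))
          fun χ _ => ?_, Finset.sum_add_distrib, Finset.sum_ite_eq', Finset.sum_ite_mem,
          Finset.univ_inter, Finset.sum_const, Finset.card_image_of_injective _ D.inj,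
          Finset.card_univ, ← Nat.card_eq_fintype_card, ht]
        · simp
        · simp only [w]
          split_ifs with h1 h2'
          · exact absurd (h2' ▸ h1) hnY
          all_goals ring
      rw [e, Int.even_add, Int.even_pow' two_ne_zero] at h
      exact Int.not_even_iff_odd.mp fun h' => by
        obtain ⟨r, hr⟩ := h.mpr h'
        omega
    · simp only [w] at hχ
      by_cases h1 : χ ∈ Finset.univ.image D.e
      · obtain ⟨o, -, rfl⟩ := Finset.mem_image.mp h1
        exact D.mem o
      · by_cases h2' : χ = trivIrr G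
        · exact h2' ▸ hone.1.1
        · simp [h1, h2'] at hχ
    · obtain ⟨y, hy, hv⟩ := hsing g hg
      simp only [w, Int.cast_add, add_mul, Finset.sum_add_distrib, apply_ite (Int.cast (R := ℂ)),
        Int.cast_one, Int.cast_zero, ite_mul, one_mul, zero_mul, Finset.sum_ite_eq', Finset.mem_univ,
        if_true, Finset.sum_ite_mem, Finset.univ_inter]
      rw [Finset.sum_image fun a _ b _ e => D.inj e,
        Finset.sum_congr rfl fun o _ => hv _ (D.mem o), hsumY y hy,
        show (trivIrr G : G → ℂ) g = 1 from rfl]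
      push_cast
      ring
  have hX0 : (0 : ℤ) ≤ ∑ χ : IrrCharacter G with χ ∈ D.X, D.a h2 χ ^ 2 :=
    Finset.sum_nonneg fun χ _ => sq_nonneg _
  have hk : D.k = 0 := by
    obtain ⟨r, hr⟩ : Even D.k := by
      obtain ⟨r, hr⟩ := hkodd
      rcases D.sign with f | f <;> exact Int.even_iff.mpr (by omega)
    have h1 := sq_nonneg (D.k - D.δ)
    by_contra h0
    have hr0 : 1 ≤ r ^ 2 := by
      have : r ≠ 0 := by omega
      have : 0 < r ^ 2 := by positivity
      omega
    rw [hr] at hsq h1
    nlinarith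
  have hsqX : ∑ χ : IrrCharacter G with χ ∈ D.X, D.a h2 χ ^ 2 = 5 := by
    rcases D.sign with f | f <;> rw [hk, f] at hsq <;> norm_num at hsq <;> linarith
  have hsq1 : ∀ χ ∈ Finset.univ.filter (fun χ : IrrCharacter G => χ ∈ D.X), D.a h2 χ ^ 2 = 1 := by
    intro χ hχ
    have hle : D.a h2 χ ^ 2 ≤ 5 := hsqX ▸ Finset.single_le_sum (f := fun χ => D.a h2 χ ^ 2)
      (fun χ _ => sq_nonneg _) hχ
    have hb : -2 ≤ D.a h2 χ ∧ D.a h2 χ ≤ 2 := ⟨by nlinarith, by nlinarith⟩
    obtain ⟨r, hr⟩ := hodd χ (Finset.mem_filter.mp hχ).2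
    have : D.a h2 χ = 1 ∨ D.a h2 χ = -1 := by omega
    rcases this with f | f <;> simp [f]
  rw [Finset.sum_congr rfl hsq1, Finset.sum_const, nsmul_one] at hsqX
  have hs := sum_split D h2 (fun _ => (1 : ℕ))
  simp only [Finset.sum_const, Finset.card_univ, smul_eq_mul, mul_one] at hs
  rw [Nat.card_eq_fintype_card, Fintype.card_subtype, hs, ← Nat.card_eq_fintype_card (α := Orb P), ht]
  have : (Finset.univ.filter fun χ : IrrCharacter G => χ ∈ D.X).card = 5 := by exact_mod_cast hsqX
  omega

end CfsgLib.EightSeven
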