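import Cfsg.Agent.Lib.Blocks.AbelianFrobeniusThree

/-!
# Frobenius action of order three on an abelian Sylow subgroup: the number of characters
-/

set_option autoImplicit false
set_option linter.unusedSectionVars false
set_option linter.style.haveILetI false

namespace CfsgLib.EightSeven

open Cfsg CfsgLib.Blocks CfsgLib.Blocks.AbelianFrob
open scoped CfsgLib.Char

variable {p : ℕ} [Fact p.Prime] {M : Ideal AlgInt} {G : Type*} [Group G] [Fintype G] (P : Sylow p G)

/-- With inertial index three there are three characters more than orbits. -/
theorem card_principal_three (hM : IsPModular p M) (hab : IsMulCommutative (P : Subgroup G))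
    (hfrob : IsFrob P) (h3 : Nat.card (autG P) = 3) (h7 : 7 ≤ Nat.card P) :
    3 * Nat.card (principalBlock M G) = Nat.card P + 8 := by
  classical
  have hmul := card_orb_mul P hab hfrob
  rw [h3] at hmul
  have h2 : 2 ≤ Nat.card (Orb P) := by omega
  obtain ⟨D, hk⟩ := exists_data_zero (M := M) P hM hab hfrob h3 h2
  haveI := Fintype.ofFinite (Orb P)
  have hX := card_X (M := M) hM hab hfrob h3 D h2 hk
  have hs := sum_split D h2 (fun _ => (1 : ℕ))
  simp only [Finset.sum_const, Finset.card_univ, smul_eq_mul, mul_one] at hs
  have hB : Nat.card (principalBlock M G) =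
      (Finset.univ.filter fun χ : IrrCharacter G => χ ∈ principalBlock M G).card := by
    rw [Nat.card_eq_fintype_card, Fintype.card_subtype]
  have hD : Nat.card D.X = (Finset.univ.filter fun χ : IrrCharacter G => χ ∈ D.X).card := by
    rw [Nat.card_eq_fintype_card, Fintype.card_subtype]
  rw [hB, hs, ← hD, hX, ← Nat.card_eq_fintype_card]
  omega

end CfsgLib.EightSeven
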