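import Mathlib

/-!
# Parity of decomposition matrices against a column with a single even entry

If the projective columns are permuted by an involution compatible with complex conjugation and
every fixed column has even norm, then the orthogonal complement of a column with exactly one even
entry is not spanned by them.
-/

set_option autoImplicit false

namespace CfsgLib.EightSeven

variable {X J : Type*} [Fintype X] [Fintype J]

omit [Fintype J] in
/-- A fixed column of even norm is even at the only even entry of the section column. -/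
theorem entry_even_of_norm (D : X → J → ℤ) (d : X → ℤ) {xs : X}
    (hs : ∀ x, Even (d x) ↔ x = xs) (horth : ∀ j, ∑ x, d x * D x j = 0) {j : J}
    (hev : Even (∑ x, D x j ^ 2)) : Even (D xs j) := by
  classical
  rw [← ZMod.intCast_eq_zero_iff_even] at hev ⊢
  have h1 : ∀ a : ZMod 2, a ^ 2 = a := by decide
  have hd : ∀ x, (d x : ZMod 2) = if x = xs then 0 else 1 := fun x => by
    split_ifs with h
    · exact ZMod.intCast_eq_zero_iff_even.mpr ((hs x).mpr h)
    · exact ZMod.intCast_eq_one_iff_odd.mpr (Int.not_even_iff_odd.mp fun he => h ((hs x).mp he))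
  push_cast at hev
  simp only [h1] at hev
  have ho : ∑ x, (d x : ZMod 2) * (D x j : ZMod 2) = 0 := by
    have := congrArg (Int.cast : ℤ → ZMod 2) (horth j)
    push_cast at this
    exact this
  rw [← Finset.add_sum_erase _ _ (Finset.mem_univ xs), hd xs, if_pos rfl, zero_mul, zero_add] at ho
  have he : ∀ x ∈ Finset.univ.erase xs, (d x : ZMod 2) * (D x j : ZMod 2) = (D x j : ZMod 2) :=
    fun x hx => by rw [hd x, if_neg (Finset.ne_of_mem_erase hx), one_mul]
  rw [Finset.sum_congr rfl he] at ho
  rw [← Finset.add_sum_erase _ _ (Finset.mem_univ xs), ho, add_zero] at hev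
  exact hev

/-- No projective basis with even self-conjugate diagonal is orthogonal to such a column. -/
theorem false_of_even_diag (D : X → J → ℤ) (d : X → ℤ) (σ : X → X) (π : J → J)
    (hσ : Function.Involutive σ) (hπ : Function.Involutive π)
    (hD : ∀ x j, D (σ x) (π j) = D x j) (hdσ : ∀ x, d (σ x) = d x)
    (x₀ xs : X) (h0 : d x₀ = 1) (h0σ : σ x₀ = x₀) (hs : ∀ x, Even (d x) ↔ x = xs)
    (horth : ∀ j, ∑ x, d x * D x j = 0)
    (hspan : ∀ w : X → ℤ, ∑ x, d x * w x = 0 → ∃ l : J → ℤ, ∀ x, w x = ∑ j, l j * D x j)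
    (hindep : ∀ l : J → ℤ, (∀ x, ∑ j, l j * D x j = 0) → l = 0)
    (heven : ∀ j, π j = j → Even (∑ x, D x j ^ 2)) : False := by
  classical
  have hne : x₀ ≠ xs := fun h => by
    have := (hs x₀).mpr h
    rw [h0] at this
    exact absurd this (by decide)
  have hsσ : σ xs = xs := (hs _).mp (by rw [hdσ]; exact (hs xs).mpr rfl)
  let w : X → ℤ := fun x => (if x = xs then 1 else 0) + if x = x₀ then -(d xs) else 0
  obtain ⟨l, hl⟩ := hspan w (by
    simp [w, mul_add, Finset.sum_add_distrib, h0])
  have hwσ : ∀ x, w (σ x) = w x := fun x => by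
    have hi : ∀ y, σ y = y → (σ x = y ↔ x = y) := fun y hy =>
      ⟨fun h => hσ.injective (h.trans hy.symm), fun h => by rw [h, hy]⟩
    simp only [w, hi _ hsσ, hi _ h0σ]
  have hDπ : ∀ x j, D x (π j) = D (σ x) j := fun x j => by
    conv_lhs => rw [← hσ x]
    exact hD (σ x) j
  have hlπ : ∀ j, l (π j) = l j := by
    have h := hindep (fun j => l (π j) - l j) fun x => by
      simp only [sub_mul, Finset.sum_sub_distrib, ← hl x]
      have e : ∑ j, l (π j) * D x j = ∑ j, l j * D (σ x) j := by
        rw [← Equiv.sum_comp (hπ.toPerm π) (fun j => l j * D (σ x) j)]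
        refine Finset.sum_congr rfl fun j _ => ?_
        simp only [Function.Involutive.coe_toPerm]
        rw [← hDπ x (π j), hπ j]
      rw [e, ← hl (σ x), hwσ x, sub_self]
    intro j
    exact sub_eq_zero.mp (congrFun h j)
  have hfix : ∀ j, π j = j → (D xs j : ZMod 2) = 0 := fun j hj =>
    ZMod.intCast_eq_zero_iff_even.mpr (entry_even_of_norm D d hs horth (heven j hj))
  have hsum : ∑ j, (l j : ZMod 2) * (D xs j : ZMod 2) = 0 := by
    refine Finset.sum_involution (fun j _ => π j) (fun j _ => ?_) (fun j _ hj => ?_)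
      (fun j _ => Finset.mem_univ _) fun j _ => hπ j
    · rw [hlπ j, hDπ xs j, hsσ]
      exact CharTwo.add_self_eq_zero _
    · intro hj'
      exact hj (by rw [hfix j hj', mul_zero])
  have h1 := congrArg (Int.cast : ℤ → ZMod 2) (hl xs)
  push_cast at h1
  rw [hsum] at h1
  simp [w, hne.symm] at h1

end CfsgLib.EightSeven
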