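import Cfsg.Agent.Lib.EightSeven.EvenNorm
import Cfsg.Agent.Lib.EightSeven.FixedFactor
import Cfsg.Agent.Lib.Blocks.AbelianFrobeniusSylow
import Cfsg.Agent.Lib.Blocks.InertiaNine.Local

/-!
# A transitive inertial group on an elementary abelian Sylow two-subgroup

All values of the principal block at an involution are odd, so their squares, which add up to the
order of the Sylow subgroup, are `1` or `9`.
-/

set_option autoImplicit false
set_option linter.unusedSectionVars false
set_option linter.style.haveILetI false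

namespace CfsgLib.EightSeven

open Cfsg CfsgLib CfsgLib.Blocks
open scoped ComplexConjugate CfsgLib.Char

universe u

variable {G : Type u} [Group G] [Fintype G] (P : Sylow 2 G)

/-- The elementary abelian Sylow subgroup gives the exponent of all two-elements. -/
theorem exp_two_of_sylow (hexp : ∀ x ∈ (P : Subgroup G), x * x = 1) (g : G)
    (hg : ∃ j : ℕ, orderOf g = 2 ^ j) : g * g = 1 := by
  haveI : Fact (Nat.Prime 2) := ⟨Nat.prime_two⟩
  obtain ⟨j, hj⟩ := hg
  obtain ⟨Q, hQ⟩ := (IsPGroup.of_card (p := 2) (n := j)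
    (show Nat.card (Subgroup.zpowers g) = 2 ^ j by rw [Nat.card_zpowers, hj])).exists_le_sylow
  obtain ⟨c, rfl⟩ := MulAction.exists_smul_eq G P Q
  have hmem : g ∈ (c • P : Sylow 2 G) := hQ (Subgroup.mem_zpowers g)
  rw [← SetLike.mem_coe, Sylow.coe_smul] at hmem
  obtain ⟨x, hx, rfl⟩ := Set.mem_smul_set.mp hmem
  rw [MulAut.smul_def, MulAut.conj_apply, show c * x * c⁻¹ * (c * x * c⁻¹) = c * (x * x) * c⁻¹ by group,
    hexp x hx, mul_one, mul_inv_cancel]

/-- The fixed point free action is of Frobenius type. -/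
theorem isFrob_of_fixed (hab : ∀ x ∈ (P : Subgroup G), ∀ y ∈ (P : Subgroup G), x * y = y * x)
    (hfix : IsFixedPart (P : Subgroup G) ⊥) : AbelianFrob.IsFrob P := fun y hy hy1 => by
  refine le_antisymm (fun n hn => ?_) fun c hc => ?_
  · obtain ⟨h1, h2⟩ := Subgroup.mem_inf.mp hn
    exact hfix.2.2 y hy (fun h => hy1 (Subgroup.mem_bot.mp h)) n h2
      (mul_inv_eq_iff_eq_mul.mpr (Subgroup.mem_centralizer_singleton_iff.mp h1))
  · exact Subgroup.mem_inf.mpr ⟨Subgroup.mem_centralizer_singleton_iff.mpr
      (Subgroup.mem_centralizer_iff.mp hc y hy).symm, centralizer_le_normalizer _ hc⟩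

open Classical in
/-- **The transitive case.** -/
theorem card_transitive {M : Ideal AlgInt} (hM : IsPModular 2 M)
    (hab : ∀ x ∈ (P : Subgroup G), ∀ y ∈ (P : Subgroup G), x * y = y * x)
    (hexp : ∀ x ∈ (P : Subgroup G), x * x = 1) (hfix : IsFixedPart (P : Subgroup G) ⊥)
    (he : inertia (P : Subgroup G) + 1 = Nat.card (P : Subgroup G))
    (hP : Nat.card (P : Subgroup G) = 4 ∨ Nat.card (P : Subgroup G) = 8 ∨
      Nat.card (P : Subgroup G) = 16) :
    blockRank 2 (principalBlock M G) + 1 = Nat.card (principalBlock M G) ∧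
      (Nat.card (P : Subgroup G) ≠ 16 →
        Nat.card (principalBlock M G) = Nat.card (P : Subgroup G)) ∧
      (Nat.card (P : Subgroup G) = 16 →
        Nat.card (principalBlock M G) = 8 ∨ Nat.card (principalBlock M G) = 16) := by
  haveI : Fact (Nat.Prime 2) := ⟨Nat.prime_two⟩
  haveI := isPrime_of_isPModular hM
  have habP : IsMulCommutative (P : Subgroup G) :=
    ⟨⟨fun a b => Subtype.ext (hab a a.2 b b.2)⟩⟩
  have hfrob := isFrob_of_fixed P hab hfix
  have hB := isPBlock_principalBlock (M := M) (G := G)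
  -- the rank
  have hkl : blockRank 2 (principalBlock M G) + 1 = Nat.card (principalBlock M G) := by
    have h := card_principal_fixed P hM hab hfix
    rw [Subgroup.card_bot, one_mul, ← he] at h
    have he0 : 0 < inertia (P : Subgroup G) := by omega
    refine Nat.eq_of_mul_eq_mul_left he0 ?_
    rw [Nat.mul_add, mul_one]
    omega
  have hP2 : 2 ∣ Nat.card (P : Subgroup G) := by rcases hP with h | h | h <;> rw [h] <;> norm_num
  have hP1 : (P : Subgroup G) ≠ ⊥ := fun h => by rw [h, Subgroup.card_bot] at hP; omega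
  haveI : Nontrivial (P : Subgroup G) := (Subgroup.nontrivial_iff_ne_bot _).mpr hP1
  obtain ⟨⟨y, hy⟩, hy1⟩ := exists_ne (1 : (P : Subgroup G))
  have hyne : y ≠ 1 := fun h => hy1 (Subtype.ext h)
  -- transitivity
  haveI : Fintype (AbelianFrob.autG P) := Fintype.ofFinite _
  have htrans : ∀ y' : (P : Subgroup G), y' ≠ 1 → IsConj y (y' : G) := by
    intro y' hy'
    let f : AbelianFrob.autG P → {v : (P : Subgroup G) // v ≠ 1} := fun w =>
      ⟨(w : MulAut (P : Subgroup G)) ⟨y, hy⟩, fun h => hy1 ((w : MulAut (P : Subgroup G)).injective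
        (h.trans (map_one _).symm))⟩
    have hinj : Function.Injective f := by
      intro w v h
      by_contra hne
      have h' : (w : MulAut (P : Subgroup G)) ⟨y, hy⟩ = (v : MulAut (P : Subgroup G)) ⟨y, hy⟩ :=
        congrArg Subtype.val h
      refine hy1 (AbelianFrob.autG_fpf P hfrob (mul_mem (inv_mem v.2) w.2) (fun e => hne ?_) ?_)
      · exact Subtype.ext (inv_mul_eq_one.mp e).symm
      · rw [MulAut.mul_apply, h', MulAut.inv_apply_self]
    have hcard : Fintype.card (AbelianFrob.autG P) =
        Fintype.card {v : (P : Subgroup G) // v ≠ 1} := by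
      rw [Fintype.card_subtype_compl, Fintype.card_subtype_eq, ← Nat.card_eq_fintype_card,
        ← Nat.card_eq_fintype_card, AbelianFrob.card_autG P]
      have := he
      simp only [inertia] at this
      omega
    obtain ⟨w, hw⟩ := ((Fintype.bijective_iff_injective_and_card f).mpr ⟨hinj, hcard⟩).2 ⟨y', hy'⟩
    exact (AbelianFrob.isConj_iff_autG P habP ⟨y, hy⟩ y').mpr ⟨w, w.2, congrArg Subtype.val hw⟩
  -- integral values
  have hy2 : y ^ 2 = 1 := by rw [sq]; exact hexp y hy
  choose d hd using fun χ : IrrCharacter G => InertiaNine.exists_int_invol hy2 χ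
  have hsing : ∀ χ ∈ principalBlock M G, ∀ g : G, ¬ IsPRegular 2 g →
      (χ : G → ℂ) g = (d χ : ℂ) := by
    intro χ hχ g hg
    obtain ⟨v, hv, -⟩ := exists_isPPart Nat.prime_two g
    have hv1 : v ≠ 1 := by
      rintro rfl
      obtain ⟨u, h1, -, -, h4⟩ := hv
      exact hg (by rw [← h1, one_mul]; exact h4)
    have hv0 := hv
    obtain ⟨u, -, -, ⟨j, hj⟩, -⟩ := hv
    obtain ⟨Q, hQ⟩ := (IsPGroup.of_card (p := 2) (n := j)
      (show Nat.card (Subgroup.zpowers v) = 2 ^ j by rw [Nat.card_zpowers, hj])).exists_le_sylow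
    obtain ⟨c, rfl⟩ := MulAction.exists_smul_eq G P Q
    have hmem : v ∈ (c • P : Sylow 2 G) := hQ (Subgroup.mem_zpowers v)
    rw [← SetLike.mem_coe, Sylow.coe_smul] at hmem
    obtain ⟨x, hx, hxv⟩ := Set.mem_smul_set.mp hmem
    rw [MulAut.smul_def, MulAut.conj_apply] at hxv
    have hx1 : x ≠ 1 := by
      rintro rfl
      exact hv1 (by rw [← hxv, mul_one, mul_inv_cancel])
    have hv'' : IsPPart 2 g (c * x * c⁻¹) := by
      rw [hxv]
      exact hv0
    have h1 := IsPPart.conj hv'' c⁻¹
    rw [show c⁻¹ * (c * x * c⁻¹) * c⁻¹⁻¹ = x by group, inv_inv] at h1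
    have h2 := AbelianFrob.value_section P hM habP hfrob hχ h1 hx hx1
    have h3 : (χ : G → ℂ) (c⁻¹ * g * c) = (χ : G → ℂ) g := by
      have := irr_classFunction χ g c⁻¹
      rwa [inv_inv] at this
    rw [← h3, h2, ← hd χ]
    exact (CfsgLib.Char.eq_of_isConj (irr_classFunction χ) (htrans ⟨x, hx⟩ fun h => hx1
      (congrArg Subtype.val h))).symm
  have htmem : trivIrr G ∈ principalBlock M G := by
    rw [principalBlock_eq]; exact mem_blockOf_self _
  have hd0 : d (trivIrr G) = 1 := by
    have h : (trivIrr G : G → ℂ) y = (d (trivIrr G) : ℂ) := hd _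
    have h1 : (trivIrr G : G → ℂ) y = 1 := rfl
    rw [h1] at h
    exact_mod_cast h.symm
  -- all values are odd
  have hodd : ∀ χ ∈ principalBlock M G, Odd (d χ) := by
    intro χ hχ
    by_contra hev
    rw [Int.not_odd_iff_even] at hev
    have hne : χ ≠ trivIrr G := fun h => by rw [h, hd0] at hev; exact absurd hev (by decide)
    set w : IrrCharacter G → ℤ :=
      fun ξ => (if ξ = χ then 1 else 0) + if ξ = trivIrr G then -d χ else 0 with hw
    have h := even_norm hM (hP2.trans (Subgroup.card_subgroup_dvd_card _))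
      (exp_two_of_sylow P hexp) w (fun ξ hξ => by
        by_contra h'
        apply hξ
        simp only [hw]
        rw [if_neg (fun e : ξ = χ => h' (by rw [e]; exact hχ)),
          if_neg (fun e : ξ = trivIrr G => h' (by rw [e]; exact htmem)), add_zero])
      fun g hg => by
        simp only [hw, Int.cast_add, add_mul, Finset.sum_add_distrib, Int.cast_ite, Int.cast_one,
          Int.cast_zero, ite_mul, one_mul, zero_mul, Finset.sum_ite_eq', Finset.mem_univ, if_true]
        rw [hsing χ hχ g hg, hsing _ htmem g hg, hd0]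
        push_cast
        ring
    have hsq : ∑ ξ, w ξ ^ 2 = 1 + d χ ^ 2 := by
      rw [← Finset.sum_subset (Finset.subset_univ ({χ, trivIrr G} : Finset (IrrCharacter G)))
        fun ξ _ hξ => by
          simp only [Finset.mem_insert, Finset.mem_singleton, not_or] at hξ
          simp [hw, hξ.1, hξ.2], Finset.sum_pair hne]
      simp [hw, hne, hne.symm]
    rw [hsq] at h
    obtain ⟨a, ha⟩ := hev
    obtain ⟨b, hb⟩ := h
    have : (a + a) ^ 2 = 2 * (2 * a ^ 2) := by ring
    rw [ha, this] at hb
    omega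
  -- the column
  have hcol : ∑ χ : IrrCharacter G with χ ∈ principalBlock M G, d χ ^ 2 =
      (Nat.card (P : Subgroup G) : ℤ) := by
    have h := AbelianFrob.column P hM habP hfrob (y := ⟨y, hy⟩) hy1 ⟨y, hy⟩
    rw [Finset.sum_eq_single (1 : AbelianFrob.autG P) (fun v _ hv => if_neg fun e =>
        hy1 (AbelianFrob.autG_fpf P hfrob v.2 (fun e' => hv (Subtype.ext e')) e))
      (fun hc => absurd (Finset.mem_univ _) hc), if_pos (by simp), mul_one] at h
    have e : ∀ χ : IrrCharacter G, (χ : G → ℂ) y * conj ((χ : G → ℂ) y) = ((d χ ^ 2 : ℤ) : ℂ) :=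
      fun χ => by rw [hd χ, map_intCast]; push_cast; ring
    rw [Finset.sum_congr rfl fun χ _ => e χ, ← Int.cast_sum] at h
    exact_mod_cast h
  set s : Finset (IrrCharacter G) := Finset.univ.filter (· ∈ principalBlock M G) with hs
  have hcard : Nat.card (principalBlock M G) = s.card := by
    rw [Nat.card_eq_fintype_card, Fintype.card_subtype]
  have hts : trivIrr G ∈ s := Finset.mem_filter.mpr ⟨Finset.mem_univ _, htmem⟩
  have hval : ∀ χ ∈ s, d χ ^ 2 = 1 + (if d χ ^ 2 = 9 then 8 else 0 : ℤ) := by
    intro χ hχ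
    have h1 : d χ ^ 2 ≤ 16 := by
      have := Finset.single_le_sum (f := fun ξ => d ξ ^ 2) (fun ξ _ => sq_nonneg _) hχ
      rw [hcol] at this
      rcases hP with h | h | h <;> rw [h] at this <;> push_cast at this <;> linarith
    have h2 : d χ ≤ 4 := by nlinarith
    have h3 : -4 ≤ d χ := by nlinarith
    have h4 := hodd χ (Finset.mem_filter.mp hχ).2
    rw [Int.odd_iff] at h4
    generalize d χ = z at *
    interval_cases z <;> simp_all
  set j : ℕ := (s.filter fun χ => d χ ^ 2 = 9).card with hj
  have htot : (s.card : ℤ) + 8 * j = Nat.card (P : Subgroup G) := by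
    rw [← hcol, Finset.sum_congr rfl hval, Finset.sum_add_distrib, Finset.sum_const, nsmul_one,
      ← Finset.sum_filter, Finset.sum_const, nsmul_eq_mul, hj]
    ring
  have hjlt : j < s.card := by
    refine Finset.card_lt_card (Finset.ssubset_iff_of_subset (Finset.filter_subset _ _) |>.mpr
      ⟨trivIrr G, hts, fun h => ?_⟩)
    have := (Finset.mem_filter.mp h).2
    rw [hd0] at this
    norm_num at this
  refine ⟨hkl, fun h16 => ?_, fun h16 => ?_⟩ <;> rw [hcard] <;> omega

end CfsgLib.EightSeven
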